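import Cfsg.Agent.Lib.U34Recog.Points

/-!
# The exchanging involution is the standard one
-/

namespace CfsgLib.U34Recog

set_option autoImplicit false
set_option linter.style.haveILetI false

universe u

variable {G : Type u} [Group G] [Finite G]

theorem elt_spec {o n : ℕ} (ho : o < 5) (hn : n < 15) :
    elt o n = hp n (reps.getD o 0) ∧ locO (elt o n) = o ∧ (o = 4 ∨ locN (elt o n) = n) := by
  have h := List.all_eq_true.1 (List.all_eq_true.1 elt_ok o (List.mem_range.2 ho)) n (List.mem_range.2 hn)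
  simp only [Bool.and_eq_true, Bool.or_eq_true, beq_iff_eq] at h
  exact ⟨h.1.1, h.1.2, h.2⟩

theorem loc_spec {i : ℕ} (hi : i < 64) (h0 : i ≠ 0) :
    locO i < 5 ∧ locN i < 15 ∧ elt (locO i) (locN i) = i ∧ (locO i = 4 ↔ i % 16 = 0) := by
  have h := List.all_eq_true.1 loc_ok i (List.mem_range.2 hi)
  simp only [Bool.or_eq_true, beq_iff_eq, h0, false_or, Bool.and_eq_true, decide_eq_true_eq] at h
  refine ⟨h.1.1.1.1, h.1.1.1.2, h.1.1.2, ?_⟩
  have := h.2
  exact ⟨fun e => by simpa [e] using this, fun e => by simpa [e] using this⟩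

theorem reps_lt {o : ℕ} (ho : o < 5) : reps.getD o 0 < 64 ∧ reps.getD o 0 ≠ 0 := by
  interval_cases o <;> decide

theorem elt_lt {o n : ℕ} (ho : o < 5) (hn : n < 15) : elt o n < 65 :=
  (elt_spec ho hn).1 ▸ hp_lt n (Nat.lt_succ_of_lt (reps_lt ho).1)

/-- Central points are fixed by the cube of the automorphism, the others are not. -/
theorem central_ok : (List.range 64).all (fun i => i == 0 || ((hp 3 i == i) == (i % 16 == 0))) = true := by
  decide +kernel

theorem central_iff {i : ℕ} (hi : i < 64) (h0 : i ≠ 0) : hp 3 i = i ↔ i % 16 = 0 := by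
  have h := List.all_eq_true.1 central_ok i (List.mem_range.2 hi)
  simp only [Bool.or_eq_true, beq_iff_eq, h0, false_or] at h
  exact ⟨fun e => by simpa [e] using h, fun e => by simpa [e] using h⟩

/-- The possible actions on the central orbit. -/
theorem central_orbit_ok : [1, 4, 11, 14].all (fun k => (List.range 15).all fun s =>
    !(elt 4 ((k * s + s) % 15) == 16) ||
      ((k == 11 || k == 14) && (List.range 15).any fun d => elt 4 ((k * d + s) % 15) == elt 4 d) ||
      (elt 4 ((k * 1 + s) % 15) == elt 4 1 && elt 4 s == 16 && (k == 1 || k == 4))) = true := by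
  decide +kernel

/-- A power of the automorphism moving an element of the central orbit to the first one. -/
theorem central_back_ok : (List.range 15).all (fun d => (List.range 15).any fun m => hp m (elt 4 d) == 16) = true := by
  decide +kernel

namespace Coord

variable (C : Coord G)

/-- The map of an element on the numbers of the points. -/
noncomputable def wf (w : G) (i : ℕ) : ℕ := C.idx (w • C.pt i)

theorem wf_lt (w : G) (i : ℕ) : C.wf w i < 65 := C.idx_lt _

theorem wf_pt (w : G) (i : ℕ) : w • C.pt i = C.pt (C.wf w i) := (C.pt_idx _).symm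

theorem wf_invol {w : G} (hww : w * w = 1) {i : ℕ} (hi : i < 65) : C.wf w (C.wf w i) = i :=
  C.idx_eq hi (by rw [← C.wf_pt, ← mul_smul, hww, one_smul])

theorem wf_ends {w : G} (h0 : w • C.P₀ = C.P₁) (h1 : w • C.P₁ = C.P₀) : C.wf w 0 = 64 ∧ C.wf w 64 = 0 :=
  ⟨C.idx_eq (by norm_num) (by rw [C.pt_top, C.pt_zero, h1]),
    C.idx_eq (by norm_num) (by rw [C.pt_top, C.pt_zero, h0])⟩

theorem wf_mid {w : G} (hww : w * w = 1) (h0 : w • C.P₀ = C.P₁) (h1 : w • C.P₁ = C.P₀) {i : ℕ}
    (hi : i < 64) (hi0 : i ≠ 0) : C.wf w i < 64 ∧ C.wf w i ≠ 0 := by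
  obtain ⟨e0, e64⟩ := C.wf_ends h0 h1
  have := C.wf_lt w i
  have hh := C.wf_invol hww (show i < 65 by omega)
  refine ⟨?_, fun e => ?_⟩
  · by_contra hge
    rw [show C.wf w i = 64 by omega, e64] at hh
    exact hi0 hh.symm
  · rw [e, e0] at hh
    omega

/-- The multiplier. -/
theorem exists_mult {w : G} (hww : w * w = 1) (h0 : w • C.P₀ = C.P₁) (h1 : w • C.P₁ = C.P₀) :
    ∃ k, k ∈ [1, 4, 11, 14] ∧ w * C.h * w = C.h ^ k := by
  obtain ⟨k, hk, hwh⟩ := C.stab (w * C.h * w) (by rw [mul_smul, mul_smul, h0, C.fix₁, h1])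
    (by rw [mul_smul, mul_smul, h1, C.fix₀, h0])
  refine ⟨k, ?_, hwh⟩
  have hinv : w⁻¹ = w := inv_eq_of_mul_eq_one_left hww
  have h : C.h = C.h ^ (k * k) := by
    have e : (w * C.h * w) ^ k = w * C.h ^ k * w := by
      rw [show w * C.h * w = w * C.h * w⁻¹ by rw [hinv], conj_pow, hinv]
    rw [pow_mul, ← hwh, e, ← hwh]
    calc C.h = (w * w) * C.h * (w * w) := by rw [hww, one_mul, mul_one]
      _ = w * (w * C.h * w) * w := by simp only [mul_assoc]
  have hmod : k * k % 15 = 1 := by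
    have h' : C.h ^ (k * k) = C.h ^ 1 := by rw [pow_one]; exact h.symm
    rw [pow_eq_pow_iff_modEq, C.ord] at h'
    exact h'
  revert hmod hk
  intro hk hmod
  interval_cases k <;> simp at hmod ⊢

/-- Equivariance. -/
theorem wf_hp {w : G} {k : ℕ} (hww : w * w = 1) (hk : w * C.h * w = C.h ^ k) (n : ℕ) {i : ℕ} (hi : i < 65) :
    C.wf w (hp n i) = hp (k * n % 15) (C.wf w i) := by
  have hcomm : w * C.h ^ n = C.h ^ (k * n % 15) * w := by
    rw [← C.hpow_mod, pow_mul, ← hk]
    induction n with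
    | zero => simp
    | succ n ih =>
      calc w * C.h ^ (n + 1) = w * C.h ^ n * C.h := by rw [pow_succ, mul_assoc]
        _ = (w * C.h * w) ^ n * w * C.h * (w * w) := by rw [ih, hww, mul_one]
        _ = _ := by rw [pow_succ]; simp only [mul_assoc]
  exact C.idx_eq (hp_lt _ (C.wf_lt w i)) (by
    rw [← C.hpow_smul _ (C.wf_lt w i), ← C.wf_pt, ← mul_smul, ← hcomm, mul_smul, C.hpow_smul n hi])

/-- The images of the orbits. -/
theorem wf_elt {w : G} {k : ℕ} (hww : w * w = 1) (h0 : w • C.P₀ = C.P₁) (h1 : w • C.P₁ = C.P₀)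
    (hk : w * C.h * w = C.h ^ k) {o n : ℕ} (ho : o < 5) (hn : n < 15) :
    C.wf w (elt o n) = elt (locO (C.wf w (reps.getD o 0)))
      ((k * n + locN (C.wf w (reps.getD o 0))) % 15) := by
  obtain ⟨hr, hr0⟩ := reps_lt ho
  obtain ⟨m1, m0⟩ := C.wf_mid hww h0 h1 hr hr0
  obtain ⟨hO, hN, he, -⟩ := loc_spec m1 m0
  have hr' : reps.getD (locO (C.wf w (reps.getD o 0))) 0 < 65 := Nat.lt_succ_of_lt (reps_lt hO).1
  rw [(elt_spec ho hn).1, C.wf_hp hww hk n (Nat.lt_succ_of_lt hr)]
  conv_lhs => rw [← he, (elt_spec hO hN).1, hp_add, hp_mod _ hr']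
  rw [← (elt_spec hO (Nat.mod_lt _ (by norm_num))).1]
  congr 1
  rw [Nat.add_mod, Nat.mod_mod, ← Nat.add_mod]

/-- Central points go to central points. -/
theorem wf_central {w : G} {k : ℕ} (hk14 : k ∈ [1, 4, 11, 14]) (hww : w * w = 1) (h0 : w • C.P₀ = C.P₁)
    (h1 : w • C.P₁ = C.P₀) (hk : w * C.h * w = C.h ^ k) {i : ℕ} (hi : i < 64) (hi0 : i ≠ 0)
    (hc : i % 16 = 0) : C.wf w i % 16 = 0 := by
  obtain ⟨m1, m0⟩ := C.wf_mid hww h0 h1 hi hi0
  refine (central_iff m1 m0).1 ?_
  have hfix : ∀ n, hp (3 * n) i = i := by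
    intro n
    induction n with
    | zero => rfl
    | succ n ih => rw [show 3 * (n + 1) = 3 + 3 * n by ring, ← hp_add, ih, (central_iff hi hi0).2 hc]
  have h := C.wf_hp hww hk (3 * k) (show i < 65 by omega)
  rw [hfix k, show k * (3 * k) % 15 = 3 by
    simp only [List.mem_cons, List.not_mem_nil, or_false] at hk14
    rcases hk14 with rfl | rfl | rfl | rfl <;> norm_num] at h
  exact h.symm

/-- A normalised exchanging involution. -/
theorem exists_normal : ∃ (w : G) (k : ℕ), w * w = 1 ∧ w ≠ 1 ∧ w • C.P₀ = C.P₁ ∧ w • C.P₁ = C.P₀ ∧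
    k ∈ [11, 14] ∧ w * C.h * w = C.h ^ k ∧ C.wf w 16 = 16 := by
  obtain ⟨t, htt, ht1, h0, h1⟩ := C.exists_swap
  obtain ⟨k, hk14, hk⟩ := C.exists_mult htt h0 h1
  obtain ⟨m1, m0⟩ := C.wf_mid htt h0 h1 (show 16 < 64 by norm_num) (by norm_num)
  have hc : C.wf t 16 % 16 = 0 := C.wf_central hk14 htt h0 h1 hk (by norm_num) (by norm_num) (by norm_num)
  obtain ⟨hO, hN, he, hiff⟩ := loc_spec m1 m0
  have hO4 : locO (C.wf t 16) = 4 := hiff.2 hc
  rw [hO4] at he
  set s := locN (C.wf t 16) with hsdef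
  have hmap : ∀ n, n < 15 → C.wf t (elt 4 n) = elt 4 ((k * n + s) % 15) := fun n hn => by
    rw [C.wf_elt htt h0 h1 hk (by norm_num) hn]
    show elt (locO (C.wf t 16)) ((k * n + locN (C.wf t 16)) % 15) = _
    rw [hO4]
  have h16 : elt 4 ((k * s + s) % 15) = 16 := by
    rw [← hmap s hN, he]
    exact C.wf_invol htt (by norm_num)
  obtain ⟨Q, -, hQu⟩ := C.unique_fixed htt ht1
  have huniq : ∀ i j, i < 65 → j < 65 → C.wf t i = i → C.wf t j = j → i = j := fun i j hi hj ei ej =>
    C.pt_inj hi hj ((hQu _ (by rw [C.wf_pt, ei])).trans (hQu _ (by rw [C.wf_pt, ej])).symm)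
  have hchk := List.all_eq_true.1 (List.all_eq_true.1 central_orbit_ok k hk14) s (List.mem_range.2 hN)
  simp only [Bool.or_eq_true, Bool.and_eq_true, beq_iff_eq, h16, Bool.not_eq_true', beq_eq_false_iff_ne,
    ne_eq, not_true, false_or, List.any_eq_true, List.mem_range] at hchk
  rcases hchk with ⟨hk2, d, hd, hfix⟩ | ⟨⟨e1, e16⟩, -⟩
  · have hfd : C.wf t (elt 4 d) = elt 4 d := (hmap d hd).trans hfix
    obtain ⟨m, hm, hm16⟩ : ∃ m, m < 15 ∧ hp m (elt 4 d) = 16 := by
      simpa using List.all_eq_true.1 central_back_ok d (List.mem_range.2 hd)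
    have hfixP : ∀ j : ℕ, C.h ^ j • C.P₀ = C.P₀ ∧ C.h ^ j • C.P₁ = C.P₁ := fun j => by
      induction j with
      | zero => simp
      | succ n ih =>
        exact ⟨by rw [pow_succ', mul_smul, ih.1, C.fix₀], by rw [pow_succ', mul_smul, ih.2, C.fix₁]⟩
    set g := C.h ^ m with hg
    have hgi0 : g⁻¹ • C.P₀ = C.P₀ := inv_smul_eq_iff.2 (hfixP m).1.symm
    have hgi1 : g⁻¹ • C.P₁ = C.P₁ := inv_smul_eq_iff.2 (hfixP m).2.symm
    refine ⟨g * t * g⁻¹, k, ?_, ?_, ?_, ?_, by simpa using hk2, ?_, ?_⟩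
    · calc g * t * g⁻¹ * (g * t * g⁻¹) = g * (t * t) * g⁻¹ := by group
        _ = 1 := by rw [htt]; group
    · intro h
      refine ht1 ?_
      calc t = g⁻¹ * (g * t * g⁻¹) * g := by group
        _ = 1 := by rw [h]; group
    · rw [mul_smul, mul_smul, hgi0, h0, (hfixP m).2]
    · rw [mul_smul, mul_smul, hgi1, h1, (hfixP m).1]
    · have c1 : g⁻¹ * C.h * g = C.h := by
        rw [mul_assoc, ← ((Commute.refl C.h).pow_left m).eq, inv_mul_cancel_left]
      have c2 : g * C.h ^ k * g⁻¹ = C.h ^ k := by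
        rw [((Commute.refl C.h).pow_pow m k).eq, mul_inv_cancel_right]
      calc g * t * g⁻¹ * C.h * (g * t * g⁻¹) = g * (t * (g⁻¹ * C.h * g) * t) * g⁻¹ := by group
        _ = g * C.h ^ k * g⁻¹ := by rw [c1, hk]
        _ = C.h ^ k := c2
    · refine C.idx_eq (by norm_num) ?_
      have hd65 : elt 4 d < 65 := elt_lt (by norm_num) hd
      have e : C.pt 16 = g • C.pt (elt 4 d) := by rw [hg, C.hpow_smul m hd65, hm16]
      rw [e, mul_smul, mul_smul, inv_smul_smul, C.wf_pt t, hfd]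
  · exfalso
    have a := huniq (elt 4 1) 16 (elt_lt (by norm_num) (by norm_num)) (by norm_num)
      ((hmap 1 (by norm_num)).trans e1) (he.symm.trans e16)
    revert a
    decide +kernel

/-- The normalised involution is the standard one. -/
theorem exists_std : ∃ w : G, w • C.P₀ = C.P₁ ∧ ∀ i, i < 65 → C.wf w i = w0 i := by
  obtain ⟨w, k, hww, hw1, h0, h1, hk2, hk, h16⟩ := C.exists_normal
  refine ⟨w, h0, ?_⟩
  have hk14 : k ∈ [1, 4, 11, 14] := by
    simp only [List.mem_cons, List.not_mem_nil, or_false] at hk2 ⊢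
    omega
  obtain ⟨Q, -, hQu⟩ := C.unique_fixed hww hw1
  have huniq : ∀ i, i < 65 → C.wf w i = i → i = 16 := fun i hi ei =>
    C.pt_inj hi (by norm_num) ((hQu _ (by rw [C.wf_pt, ei])).trans (hQu _ (by rw [C.wf_pt, h16])).symm)
  obtain ⟨O, hOdef⟩ : ∃ O : ℕ → ℕ, ∀ o, O o = locO (C.wf w (reps.getD o 0)) := ⟨_, fun _ => rfl⟩
  obtain ⟨T, hTdef⟩ : ∃ T : ℕ → ℕ, ∀ o, T o = locN (C.wf w (reps.getD o 0)) := ⟨_, fun _ => rfl⟩
  have hmap : ∀ o n, o < 5 → n < 15 → C.wf w (elt o n) = elt (O o) ((k * n + T o) % 15) := fun o n ho hn => by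
    rw [hOdef, hTdef]; exact C.wf_elt hww h0 h1 hk ho hn
  have hO5 : ∀ o, o < 5 → O o < 5 ∧ T o < 15 ∧ elt (O o) (T o) = C.wf w (reps.getD o 0) := by
    intro o ho
    obtain ⟨hr, hr0⟩ := reps_lt ho
    obtain ⟨m1, m0⟩ := C.wf_mid hww h0 h1 hr hr0
    rw [hOdef, hTdef]
    exact ⟨(loc_spec m1 m0).1, (loc_spec m1 m0).2.1, (loc_spec m1 m0).2.2.1⟩
  have hO4 : O 4 = 4 ∧ T 4 = 0 := by
    rw [hOdef, hTdef, show reps.getD 4 0 = 16 from rfl, h16]
    decide +kernel
  have hinv : ∀ o, o < 5 → O (O o) = o ∧ (o ≠ 4 → (k * T o + T (O o)) % 15 = 0) := by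
    intro o ho
    obtain ⟨hOo, hTo, he⟩ := hO5 o ho
    obtain ⟨hOO, -, -⟩ := hO5 (O o) hOo
    have h := hmap (O o) (T o) hOo hTo
    rw [he, C.wf_invol hww (Nat.lt_succ_of_lt (reps_lt ho).1)] at h
    obtain ⟨-, hlO, hlN⟩ := elt_spec hOO (show (k * T o + T (O o)) % 15 < 15 from Nat.mod_lt _ (by norm_num))
    obtain ⟨hl0, hlo, hln⟩ := elt_spec ho (show 0 < 15 by norm_num)
    have hr : elt o 0 = reps.getD o 0 := hl0
    rw [← h] at hlO hlN
    rw [hr] at hlo hln
    have hOe : O (O o) = o := hlO.symm.trans hlo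
    refine ⟨hOe, fun ho4 => ?_⟩
    rw [hOe] at hlN
    exact (hlN.resolve_left ho4).symm.trans (hln.resolve_left ho4)
  have hne : ∀ o, o < 4 → O o ≠ o := by
    intro o ho he
    obtain ⟨-, hT⟩ := hinv o (by omega)
    have hTo := (hO5 o (by omega)).2.1
    have h := hT (by omega)
    rw [he] at h
    have hchk := List.all_eq_true.1 (List.all_eq_true.1 self_ok k hk2) (T o) (List.mem_range.2 hTo)
    simp only [h, beq_self_eq_true, Bool.not_true, Bool.false_or, List.any_eq_true, List.mem_range,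
      beq_iff_eq] at hchk
    obtain ⟨d, hd, hfix⟩ := hchk
    have hw : C.wf w (elt o d) = elt o d := by rw [hmap o d (by omega) hd, he, hfix]
    have h16' := huniq _ (elt_lt (by omega) hd) hw
    have := (elt_spec (o := o) (by omega) hd).2.1
    rw [h16', show locO 16 = 4 by decide +kernel] at this
    omega
  have hO4' : ∀ o, o < 4 → O o < 4 := by
    intro o ho
    have h5 := (hO5 o (by omega)).1
    by_contra h
    have := (hinv o (by omega)).1
    rw [show O o = 4 by omega, hO4.1] at this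
    omega
  -- the pairing
  obtain ⟨c, d, hP, hOc⟩ : ∃ c d, (O 0, c, d) ∈ [(1, 2, 3), (2, 1, 3), (3, 1, 2)] ∧ O c = d := by
    have a0 := hO4' 0 (by norm_num)
    have b0 := hne 0 (by norm_num)
    have i0 := (hinv 0 (by norm_num)).1
    have key : ∀ c d p : ℕ, c < 4 → c ≠ 0 → c ≠ p → O 0 = p → p < 4 →
        (∀ x, x < 4 → x = 0 ∨ x = p ∨ x = c ∨ x = d) → O c = d := by
      intro c d p hc c0 cp hp hp4 hall
      have hlt := hO4' c hc
      have hne' := hne c hc
      have hii := (hinv c (by omega)).1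
      rcases hall (O c) hlt with h | h | h | h
      · rw [h, hp] at hii; exact absurd hii.symm cp
      · rw [h, ← hp, i0] at hii; exact absurd hii.symm c0
      · exact absurd h hne'
      · exact h
    have : O 0 = 1 ∨ O 0 = 2 ∨ O 0 = 3 := by omega
    rcases this with e | e | e
    · exact ⟨2, 3, by simp [e], key 2 3 1 (by norm_num) (by norm_num) (by norm_num) e (by norm_num) (by omega)⟩
    · exact ⟨1, 3, by simp [e], key 1 3 2 (by norm_num) (by norm_num) (by norm_num) e (by norm_num) (by omega)⟩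
    · exact ⟨1, 2, by simp [e], key 1 2 3 (by norm_num) (by norm_num) (by norm_num) e (by norm_num) (by omega)⟩
  have hlist : (O 0 = 1 ∧ c = 2 ∧ d = 3) ∨ (O 0 = 2 ∧ c = 1 ∧ d = 3) ∨ (O 0 = 3 ∧ c = 1 ∧ d = 2) := by
    simpa using hP
  have himg : ∀ o, o < 5 → imgO (O 0) c d o = O o ∧ imgS k (O 0) c d (T 0) (T c) o = T o := by
    intro o ho
    have i0 := hinv 0 (by norm_num)
    have ic := hinv c (by omega)
    rw [hOc] at ic
    have e0 := i0.2 (by norm_num)
    have ec := ic.2 (by omega)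
    have hb0 := (hO5 (O 0) (by omega)).2.1
    have hbd := (hO5 d (by omega)).2.1
    have hz : (15 - k * T 0 % 15) % 15 = T (O 0) ∧ (15 - k * T c % 15) % 15 = T d :=
      ⟨by omega, by omega⟩
    have ho' : o = 0 ∨ o = O 0 ∨ o = c ∨ o = d ∨ o = 4 := by omega
    unfold imgO imgS
    rcases ho' with rfl | rfl | rfl | rfl | rfl
    · simp
    · rw [if_neg (by omega), if_pos rfl, if_neg (by omega), if_pos rfl]; exact ⟨i0.1.symm, hz.1⟩
    · rw [if_neg (by omega), if_neg (by omega), if_pos rfl, if_neg (by omega), if_neg (by omega), if_pos rfl]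
      exact ⟨hOc.symm, rfl⟩
    · rw [if_neg (by omega), if_neg (by omega), if_neg (by omega), if_pos rfl, if_neg (by omega),
        if_neg (by omega), if_neg (by omega), if_pos rfl]
      exact ⟨ic.1.symm, hz.2⟩
    · rw [if_neg (by omega), if_neg (by omega), if_neg (by omega), if_neg (by omega), if_neg (by omega),
        if_neg (by omega), if_neg (by omega), if_neg (by omega)]
      exact ⟨hO4.1.symm, hO4.2.symm⟩
  have hfull : ∀ i, i < 65 → wv k (O 0) c d (T 0) (T c) i = C.wf w i := by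
    intro i hi
    obtain ⟨e0, e64⟩ := C.wf_ends h0 h1
    unfold wv
    split_ifs with a b
    · rw [a, e0]
    · rw [b, e64]
    · obtain ⟨hl, hln, he, -⟩ := loc_spec (show i < 64 by omega) a
      rw [(himg _ hl).1, (himg _ hl).2]
      conv_rhs => rw [← he, hmap _ _ hl hln]
  have htrans : reps.all (transOk (wv k (O 0) c d (T 0) (T c))) = true := by
    rw [List.all_eq_true]
    intro u hu
    have hu64 : u < 64 ∧ u ≠ 0 := by
      simp only [reps, List.mem_cons, List.not_mem_nil, or_false] at hu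
      omega
    obtain ⟨hu64, hu0⟩ := hu64
    obtain ⟨hv1, hv2⟩ := C.wf_mid hww h0 h1 hu64 hu0
    set g := w * (C.K.φ (C.wf w u))⁻¹ * w * C.K.φ u * w with hg
    have hg0 : g • C.P₀ = C.P₀ := by
      rw [hg, mul_smul, h0, mul_smul, ← C.pt_of_lt hu64, mul_smul, C.wf_pt, C.pt_of_lt hv1, mul_smul,
        inv_smul_smul, h1]
    obtain ⟨v, j, hv, hj, hgv⟩ := C.decomp hg0
    have hgi : ∀ i, i < 65 → C.idx (g • C.pt i) =
        C.wf w (tf (invC (C.wf w u)) (C.wf w (tf u (C.wf w i)))) := by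
      intro i hi
      refine C.idx_eq (C.wf_lt w _) ?_
      rw [hg, mul_smul, C.wf_pt, mul_smul, C.phi_smul hu64 (C.wf_lt w i), mul_smul, C.wf_pt, mul_smul,
        ← C.K.φ_inv hv1, C.phi_smul (model_inv hv1).2.2 (C.wf_lt w _), C.wf_pt]
    have hgj : ∀ i, i < 65 → C.idx (g • C.pt i) = tf v (hp j i) := by
      intro i hi
      refine C.idx_eq (tf_lt hv (hp_lt j hi)) ?_
      rw [hgv, mul_smul, C.hpow_smul j hi, C.phi_smul hv (hp_lt j hi)]
    have hv0 : tf v (hp j 0) = v := by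
      have : hp j 0 = 0 := by
        clear hj hgv hgj
        induction j with
        | zero => rfl
        | succ n ih => show hf (hp n 0) = 0; rw [ih]; decide +kernel
      rw [this, tf, if_pos (by norm_num)]
      have hz := List.all_eq_true.1 Chart.zero_ok v (List.mem_range.2 hv)
      simp only [Bool.and_eq_true, beq_iff_eq] at hz
      exact hz.1
    have hin : ∀ i, i < 65 → wv k (O 0) c d (T 0) (T c) (tf (invC (wv k (O 0) c d (T 0) (T c) u))
        (wv k (O 0) c d (T 0) (T c) (tf u (wv k (O 0) c d (T 0) (T c) i)))) = tf v (hp j i) := by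
      intro i hi
      rw [hfull i hi, hfull _ (tf_lt hu64 (C.wf_lt w i)), hfull u (by omega),
        hfull _ (tf_lt (model_inv hv1).2.2 (C.wf_lt w _)), ← hgi i hi, hgj i hi]
    simp only [transOk, Bool.and_eq_true, decide_eq_true_eq, List.any_eq_true, List.all_eq_true,
      List.mem_range, beq_iff_eq]
    rw [hin 0 (by norm_num), hv0]
    exact ⟨hv, j, hj, fun i hi => by rw [hin i hi]⟩
  have hok := List.all_eq_true.1 (List.all_eq_true.1 (List.all_eq_true.1 (List.all_eq_true.1 search_ok k hk2)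
    _ hP) (T 0) (List.mem_range.2 (hO5 0 (by norm_num)).2.1)) (T c) (List.mem_range.2 (hO5 c (by omega)).2.1)
  simp only [htrans, Bool.not_true, Bool.false_or, List.all_eq_true, List.mem_range, beq_iff_eq] at hok
  intro i hi
  rw [← hfull i hi]
  exact hok i hi

end Coord

/-- The permutations acting as the translations, the automorphism and the standard involution. -/
def stdGens : Set (Equiv.Perm (Fin 65)) :=
  {P | (∃ u, u < 64 ∧ ∀ i : Fin 65, (P i).val = tf u i.val) ∨ (∀ i : Fin 65, (P i).val = hf i.val) ∨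
    ∀ i : Fin 65, (P i).val = w0 i.val}

/-- The standard group. -/
def stdGroup : Subgroup (Equiv.Perm (Fin 65)) := Subgroup.closure stdGens

/-- A group with coordinates is the standard group. -/
theorem Coord.nonempty_mulEquiv (C : Coord G) : Nonempty (G ≃* stdGroup) := by
  obtain ⟨w, hw0, hw⟩ := C.exists_std
  have hT : ∀ u, u < 64 → ∀ i : Fin 65, (C.rho (C.K.φ u) i).val = tf u i.val := fun u hu i => by
    rw [C.rho_val, C.phi_smul hu i.isLt, C.idx_eq (Coord.tf_lt hu i.isLt) rfl]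
  have hH : ∀ i : Fin 65, (C.rho C.h i).val = hf i.val := fun i => by
    rw [C.rho_val, C.h_smul i.isLt, C.idx_eq (hf_lt i.isLt) rfl]
  have hW : ∀ i : Fin 65, (C.rho w i).val = w0 i.val := fun i => hw _ i.isLt
  refine ⟨(MonoidHom.ofInjective C.rho_injective).trans (MulEquiv.subgroupCongr ?_)⟩
  apply le_antisymm
  · rw [MonoidHom.range_eq_map, ← C.closure_eq_top hw0, MonoidHom.map_closure, Subgroup.closure_le]
    rintro _ ⟨g, hg, rfl⟩
    rcases hg with ⟨u, hu, rfl⟩ | rfl | rfl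
    · exact Subgroup.subset_closure (Or.inl ⟨u, hu, hT u hu⟩)
    · exact Subgroup.subset_closure (Or.inr (Or.inl hH))
    · exact Subgroup.subset_closure (Or.inr (Or.inr hW))
  · rw [stdGroup, Subgroup.closure_le]
    rintro P (⟨u, hu, hP⟩ | hP | hP)
    · exact ⟨C.K.φ u, Equiv.ext fun i => Fin.ext (by rw [hT u hu, hP])⟩
    · exact ⟨C.h, Equiv.ext fun i => Fin.ext (by rw [hH, hP])⟩
    · exact ⟨w, Equiv.ext fun i => Fin.ext (by rw [hW, hP])⟩

end CfsgLib.U34Recog
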