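import Cfsg.Agent.Lib.PSU3Min.Borel
import Cfsg.Agent.Lib.SuzukiTwo.UnitarySixty
import Cfsg.Agent.Lib.U34Recog.Involution

/-!
# A group of order `62400` with a strongly embedded `2^{2+4} : 15` is `PSU(3,4)`
-/

namespace CfsgLib.U34Recog

open CfsgLib.SuzukiTwo CfsgLib.PSUBorel CfsgLib.PSU3Min
open scoped commutatorElement

set_option autoImplicit false
set_option linter.style.haveILetI false

universe u v

/-- The defining properties are invariant under isomorphisms. -/
theorem sixty_of_equiv {W : Type u} {W' : Type v} [Group W] [Group W'] (e : W ≃* W') (hs : Sixty W') :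
    Sixty W := by
  have hmem : ∀ x, x ∈ Subgroup.center W ↔ e x ∈ Subgroup.center W' := fun x => by
    rw [Subgroup.mem_center_iff, Subgroup.mem_center_iff]
    exact ⟨fun h g => by simpa using congrArg e (h (e.symm g)),
      fun h g => e.injective (by simpa using h (e g))⟩
  refine ⟨(Nat.card_congr e.toEquiv).trans hs.card,
    (Nat.card_congr (Subgroup.centerCongr e).toEquiv).trans hs.card_center,
    fun x => (hmem _).2 (by rw [map_mul]; exact hs.sq _),
    fun z hz => e.injective (by rw [map_mul, map_one]; exact hs.cen _ ((hmem z).1 hz)),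
    fun x hx => (hmem x).2 (hs.inv _ (by rw [← map_mul, hx, map_one])), fun x hx z hz => ?_⟩
  obtain ⟨y, hy⟩ := hs.surj (e x) (fun h => hx ((hmem x).2 h)) (e z) ((hmem z).1 hz)
  exact ⟨e.symm y, e.injective (by rw [map_commutatorElement, MulEquiv.apply_symm_apply, hy])⟩

/-- The hypotheses determine the group. -/
theorem nonempty_mulEquiv_std {G : Type u} [Group G] [Finite G] (S : Sylow 2 G) (hs : Sixty (S : Subgroup G))
    (hcard : Nat.card G = 62400) (hN : Nat.card (Subgroup.normalizer ((S : Subgroup G) : Set G)) = 960)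
    (hC : Subgroup.centralizer ((S : Subgroup G) : Set G) ≤ (S : Subgroup G))
    (hTI : ∀ g : G, g ∉ Subgroup.normalizer ((S : Subgroup G) : Set G) →
      ∀ x ∈ (S : Subgroup G), g * x * g⁻¹ ∈ (S : Subgroup G) → x = 1) : Nonempty (G ≃* stdGroup) := by
  obtain ⟨C⟩ := exists_coord S hs hcard hN hC hTI
  exact C.nonempty_mulEquiv

variable {F : Type v} [Field F] [Fintype F]

/-- `PSU(3,4)` is the standard group. -/
theorem psu_mulEquiv_std (hF : Fintype.card F = 16) : Nonempty (Cfsg.PSU 3 F 4 ≃* stdGroup) := by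
  classical
  haveI : Fact (Nat.Prime 2) := ⟨Nat.prime_two⟩
  haveI : CharP F 2 := by
    obtain ⟨r, hr⟩ := CharP.exists F
    obtain ⟨f, hp, hf⟩ := FiniteField.card F r
    have : r ∣ 2 := hp.dvd_of_dvd_pow (n := 4) (by
      rw [show (2 : ℕ) ^ 4 = 16 from rfl, ← hF, hf]; exact dvd_pow_self r f.pos.ne')
    rwa [(Nat.prime_dvd_prime_iff_eq hp Nat.prime_two).mp this] at hr
  have hK : Fintype.card F = 4 ^ 2 := by rw [hF]; norm_num
  obtain ⟨-, σ, hσ⟩ := CfsgLib.UnitaryBasic.frob_exists hK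
  let c : Conj F := ⟨4, σ, hK, hσ⟩
  obtain ⟨E⟩ := exists_iso c (n := 3)
  haveI : Finite (SUs c 3) := Nat.finite_of_card_ne_zero (by rw [card_G c]; norm_num [c])
  have hz : Subgroup.center (Cfsg.SU 3 F 4) = ⊥ :=
    Subgroup.eq_bot_of_card_eq _ (by rw [Cfsg.Agent.S0280.center_card hK 3 (by norm_num)]; decide)
  let φ : SUs c 3 ≃* Cfsg.PSU 3 F 4 :=
    E.trans ((QuotientGroup.quotientBot).symm.trans (QuotientGroup.quotientMulEquivOfEq hz.symm))
  have hU : Nat.card (UG c) = 64 := by rw [card_UG c 2]; norm_num [c]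
  have hG : Nat.card (SUs c 3) = 62400 := by rw [card_G c]; norm_num [c]
  have hB : Nat.card (BG c) = 960 := by rw [card_BG c 2]; norm_num [c]
  haveI : Finite (UG c) := inferInstance
  let S : Sylow 2 (SUs c 3) := Sylow.ofCard (UG c) (by
    rw [hU, hG, show 62400 = 2 ^ 6 * 975 by norm_num, Nat.factorization_mul (by norm_num) (by norm_num),
      Nat.Prime.factorization_pow Nat.prime_two]
    simp [Nat.factorization_eq_zero_of_not_dvd (show ¬ 2 ∣ 975 by norm_num)])
  have hSU : (S : Subgroup (SUs c 3)) = UG c := rfl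
  -- an element with vanishing upper left part
  obtain ⟨b, hb0, hb⟩ := c.exists_antifixed
  obtain ⟨e, he⟩ := c.exists_trace_one
  have hmk : ∀ (x y : F) (hxy : y + c.σ y + x * c.σ x = 0), r3 c x y hxy ∈ UG c := fun x y hxy => by
    refine mem_UU_of_diag c ((mem_BG_iff c).mpr ⟨?_, ?_, ?_⟩) fun i => ?_
    · simp [r3, m3]
    · simp [r3, m3]
    · simp [r3, m3]
    · fin_cases i <;> simp [r3, m3]
  have hu0 : b + c.σ b + 0 * c.σ 0 = 0 := by rw [map_zero, mul_zero, add_zero, hb, add_neg_cancel]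
  have hu1 : e + c.σ e + 1 * c.σ 1 = 0 := by
    rw [map_one, mul_one, he]; exact CharTwo.add_self_eq_zero 1
  have hne : r3 c 0 b hu0 ≠ 1 := fun h => hb0 (by
    simpa [r3, m3, coe_one] using congrArg (fun A : SUs c 3 => A.1.1 0 2) h)
  have hNB : Subgroup.normalizer ((UG c : Subgroup (SUs c 3)) : Set (SUs c 3)) = BG c := by
    refine le_antisymm (fun g hg => ?_) (fun g hg => ?_)
    · exact ti c (hmk 0 b hu0) hne (by
        have := (Subgroup.mem_normalizer_iff.1 (inv_mem hg) (r3 c 0 b hu0)).1 (hmk 0 b hu0)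
        simpa using this)
    · refine Subgroup.mem_normalizer_iff.2 fun x => ⟨fun hx => conj_UG c hg hx, fun hx => ?_⟩
      have := conj_UG c (inv_mem hg) hx
      simpa [mul_assoc] using this
  have hN : Nat.card (Subgroup.normalizer ((S : Subgroup (SUs c 3)) : Set (SUs c 3))) = 960 := by
    rw [hSU, hNB, hB]
  have hTI : ∀ g : SUs c 3, g ∉ Subgroup.normalizer ((S : Subgroup (SUs c 3)) : Set (SUs c 3)) →
      ∀ x ∈ (S : Subgroup (SUs c 3)), g * x * g⁻¹ ∈ (S : Subgroup (SUs c 3)) → x = 1 := by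
    intro g hg x hx hxg
    by_contra hx1
    rw [hSU, hNB] at hg
    exact hg ((BG c).inv_mem_iff.1 (ti c hx hx1 (by rw [inv_inv]; exact hxg)))
  have hC : Subgroup.centralizer ((S : Subgroup (SUs c 3)) : Set (SUs c 3)) ≤ (S : Subgroup (SUs c 3)) := by
    rw [hSU]
    intro g hg
    rw [Subgroup.mem_centralizer_iff] at hg
    have hgB : g ∈ BG c := ti c (hmk 0 b hu0) hne (by
      rw [mul_assoc, hg _ (hmk 0 b hu0), inv_mul_cancel_left]; exact hmk 0 b hu0)
    obtain ⟨h0, h22, h11⟩ := diag_entries c hgB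
    have c0 := hg _ (hmk 0 b hu0)
    have c1 := hg _ (hmk 1 e hu1)
    have e02 := congrArg (fun A : SUs c 3 => A.1.1 0 2) c0
    have e01 := congrArg (fun A : SUs c 3 => A.1.1 0 1) c1
    rw [mul02, mul02] at e02
    rw [mul01 c hgB, mul01 c (UG_le c (hmk 1 e hu1))] at e01
    simp [r3, m3] at e02 e01
    have q1 : g.1.1 1 1 = g.1.1 0 0 := by linear_combination e01
    have q2 : g.1.1 2 2 = g.1.1 0 0 := mul_left_cancel₀ hb0 (by linear_combination e02)
    set x := g.1.1 0 0 with hx
    have hsx : c.σ x ≠ 0 := (map_ne_zero c.σ).mpr h0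
    have hn : x * c.σ x = 1 := by
      rw [h22] at q2
      calc x * c.σ x = (c.σ x)⁻¹ * c.σ x := by rw [q2]
        _ = 1 := inv_mul_cancel₀ hsx
    have hsq : c.σ x = x * x := by
      rw [h11] at q1
      exact (div_eq_iff h0).1 q1
    have h3 : x ^ 3 = 1 := by rw [← hn, hsq]; ring
    have h5 : x ^ 5 = 1 := by
      rw [← hn]
      show x ^ 5 = x * σ x
      rw [hσ]; ring
    refine mem_UG_of_corner c hgB ?_
    show x = 1
    calc x = x ^ 3 * x ^ 3 := by rw [← pow_add, show 3 + 3 = 1 + 5 by rfl, pow_add, h5, mul_one, pow_one]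
      _ = 1 := by rw [h3, one_mul]
  have hs : Sixty (S : Subgroup (SUs c 3)) := by
    haveI : Finite (Cfsg.PSU 3 F 4) := Finite.of_equiv _ φ.toEquiv
    have hcardT : Nat.card ((UG c).map φ.toMonoidHom) = 2 ^ (Nat.card (Cfsg.PSU 3 F 4)).factorization 2 := by
      rw [Subgroup.card_map_of_injective φ.injective, ← Nat.card_congr φ.toEquiv]
      exact (congrArg (fun H : Subgroup (SUs c 3) => Nat.card H) hSU).symm.trans S.card_eq_multiplicity
    let T : Sylow 2 (Cfsg.PSU 3 F 4) := Sylow.ofCard ((UG c).map φ.toMonoidHom) hcardT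
    exact sixty_of_equiv (Subgroup.equivMapOfInjective (UG c) φ.toMonoidHom φ.injective)
      (CfsgLib.SuzukiTwo.sixty hF T)
  obtain ⟨i⟩ := nonempty_mulEquiv_std S hs hG hN hC hTI
  exact ⟨φ.symm.trans i⟩

/-- A group of order `62400` with a Sylow `2`-subgroup of type `U₃(4)` whose normalizer has order `960` and
whose nontrivial elements lie in no other conjugate is `PSU(3,4)`. -/
theorem iso {G : Type u} [Group G] [Finite G] (S : Sylow 2 G) (hs : Sixty (S : Subgroup G))
    (hcard : Nat.card G = 62400) (hN : Nat.card (Subgroup.normalizer ((S : Subgroup G) : Set G)) = 960)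
    (hC : Subgroup.centralizer ((S : Subgroup G) : Set G) ≤ (S : Subgroup G))
    (hTI : ∀ g : G, g ∉ Subgroup.normalizer ((S : Subgroup G) : Set G) →
      ∀ x ∈ (S : Subgroup G), g * x * g⁻¹ ∈ (S : Subgroup G) → x = 1)
    (hF : Fintype.card F = 16) : Nonempty (G ≃* Cfsg.PSU 3 F 4) := by
  obtain ⟨i⟩ := nonempty_mulEquiv_std S hs hcard hN hC hTI
  obtain ⟨j⟩ := psu_mulEquiv_std hF
  exact ⟨i.trans j.symm⟩

end CfsgLib.U34Recog
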