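import Cfsg.Agent.Lib.U34Recog.Model

/-!
# Charts of a group of order `64` by the model
-/

namespace CfsgLib.U34Recog

set_option autoImplicit false
set_option linter.unusedSimpArgs false

universe u v

theorem model_assoc₀ {i j l : ℕ} (hi : i < 64) (hj : j < 64) (hl : l ∈ [1, 2, 4, 8, 16, 32]) :
    mulC (mulC i j) l = mulC i (mulC j l) := by
  simpa using List.all_eq_true.1 (List.all_eq_true.1 (List.all_eq_true.1 mul_assocC i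
    (List.mem_range.2 hi)) j (List.mem_range.2 hj)) l hl

theorem model_inv {i : ℕ} (hi : i < 64) : mulC (invC i) i = 0 ∧ mulC i (invC i) = 0 ∧ invC i < 64 := by
  have h := List.all_eq_true.1 inv_ok i (List.mem_range.2 hi)
  simp only [Bool.and_eq_true, beq_iff_eq, decide_eq_true_eq] at h
  exact ⟨h.1.1, h.1.2, h.2⟩

theorem beta_lt (u v : ℕ) : beta u v < 4 := Nat.mod_lt _ (by norm_num)

theorem mul_lt {i j : ℕ} (hi : i < 64) (hj : j < 64) : mulC i j < 64 := by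
  unfold mulC
  have h1 : i % 16 ^^^ j % 16 < 2 ^ 4 := Nat.xor_lt_two_pow (by omega) (by omega)
  have h2 : (i / 16 ^^^ j / 16) ^^^ beta (i % 16) (j % 16) < 2 ^ 2 :=
    Nat.xor_lt_two_pow (Nat.xor_lt_two_pow (by omega) (by omega)) (beta_lt _ _)
  omega

theorem hf_lt {i : ℕ} (hi : i < 65) : hf i < 65 := by
  have h := List.all_eq_true.1 hf_perm i (List.mem_range.2 hi)
  simp only [Bool.and_eq_true, decide_eq_true_eq] at h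
  exact h.1

theorem hf_eq {i : ℕ} (hi : i < 64) :
    hf i = mulC (mulC (i % 8 * 2) (i / 8 % 2 * 3)) (16 * pZ (i / 16)) := by
  simpa using List.all_eq_true.1 hf_ok i (List.mem_range.2 hi)

theorem pZ_lt {e : ℕ} : 16 * pZ e < 64 := by
  rcases Nat.lt_or_ge e 4 with h | h
  · interval_cases e <;> decide
  · rw [pZ, List.getD_eq_default _ _ (by simpa using h)]
    norm_num

theorem hf_lt' {i : ℕ} (hi : i < 64) : hf i < 64 :=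
  hf_eq hi ▸ mul_lt (mul_lt (by omega) (by omega)) pZ_lt

/-- Coordinates of a group by the model. -/
structure Chart (G : Type u) [Group G] where
  a₀ : G
  a₁ : G
  a₂ : G
  a₃ : G
  z₀ : G
  z₁ : G
  sq₀ : a₀ * a₀ = z₀
  sq₁ : a₁ * a₁ = z₁
  sq₂ : a₂ * a₂ = z₀ * z₁
  sq₃ : a₃ * a₃ = z₀
  s₁₀ : a₁ * a₀ = a₀ * (a₁ * z₀)
  s₂₀ : a₂ * a₀ = a₀ * (a₂ * z₀)
  s₃₀ : a₃ * a₀ = a₀ * (a₃ * (z₀ * z₁))
  s₂₁ : a₂ * a₁ = a₁ * (a₂ * z₁)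
  s₃₁ : a₃ * a₁ = a₁ * (a₃ * z₁)
  s₃₂ : a₃ * a₂ = a₂ * (a₃ * (z₀ * z₁))
  zz₀ : z₀ * z₀ = 1
  zz₁ : z₁ * z₁ = 1
  zc : z₁ * z₀ = z₀ * z₁
  c₀₀ : z₀ * a₀ = a₀ * z₀
  c₀₁ : z₀ * a₁ = a₁ * z₀
  c₀₂ : z₀ * a₂ = a₂ * z₀
  c₀₃ : z₀ * a₃ = a₃ * z₀
  c₁₀ : z₁ * a₀ = a₀ * z₁
  c₁₁ : z₁ * a₁ = a₁ * z₁
  c₁₂ : z₁ * a₂ = a₂ * z₁
  c₁₃ : z₁ * a₃ = a₃ * z₁

namespace Chart

variable {G : Type u} [Group G] (K : Chart G)

/-- The chart. -/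
def φ (n : ℕ) : G :=
  K.a₀ ^ (n % 2) * K.a₁ ^ (n / 2 % 2) * K.a₂ ^ (n / 4 % 2) * K.a₃ ^ (n / 8 % 2) * K.z₀ ^ (n / 16 % 2) *
    K.z₁ ^ (n / 32 % 2)

theorem φ_zero : K.φ 0 = 1 := by simp [φ]

theorem lift {x y r : G} (h : x = y) : x * r = y * r := by rw [h]

theorem φ_gen {n : ℕ} (hn : n < 64) {g : ℕ} (hg : g ∈ [1, 2, 4, 8, 16, 32]) :
    K.φ (mulC n g) = K.φ n * K.φ g := by
  have e₀ : ∀ r, K.a₀ * (K.a₀ * r) = K.z₀ * r := fun r => by rw [← mul_assoc, K.sq₀]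
  have e₁ : ∀ r, K.a₁ * (K.a₁ * r) = K.z₁ * r := fun r => by rw [← mul_assoc, K.sq₁]
  have e₂ : ∀ r, K.a₂ * (K.a₂ * r) = K.z₀ * (K.z₁ * r) := fun r => by rw [← mul_assoc, K.sq₂, mul_assoc]
  have e₃ : ∀ r, K.a₃ * (K.a₃ * r) = K.z₀ * r := fun r => by rw [← mul_assoc, K.sq₃]
  have f₁₀ : ∀ r, K.a₁ * (K.a₀ * r) = K.a₀ * (K.a₁ * (K.z₀ * r)) := fun r => by
    rw [← mul_assoc, K.s₁₀]; simp only [mul_assoc]
  have f₂₀ : ∀ r, K.a₂ * (K.a₀ * r) = K.a₀ * (K.a₂ * (K.z₀ * r)) := fun r => by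
    rw [← mul_assoc, K.s₂₀]; simp only [mul_assoc]
  have f₃₀ : ∀ r, K.a₃ * (K.a₀ * r) = K.a₀ * (K.a₃ * (K.z₀ * (K.z₁ * r))) := fun r => by
    rw [← mul_assoc, K.s₃₀]; simp only [mul_assoc]
  have f₂₁ : ∀ r, K.a₂ * (K.a₁ * r) = K.a₁ * (K.a₂ * (K.z₁ * r)) := fun r => by
    rw [← mul_assoc, K.s₂₁]; simp only [mul_assoc]
  have f₃₁ : ∀ r, K.a₃ * (K.a₁ * r) = K.a₁ * (K.a₃ * (K.z₁ * r)) := fun r => by
    rw [← mul_assoc, K.s₃₁]; simp only [mul_assoc]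
  have f₃₂ : ∀ r, K.a₃ * (K.a₂ * r) = K.a₂ * (K.a₃ * (K.z₀ * (K.z₁ * r))) := fun r => by
    rw [← mul_assoc, K.s₃₂]; simp only [mul_assoc]
  have u₀ : ∀ r, K.z₀ * (K.z₀ * r) = r := fun r => by rw [← mul_assoc, K.zz₀, one_mul]
  have u₁ : ∀ r, K.z₁ * (K.z₁ * r) = r := fun r => by rw [← mul_assoc, K.zz₁, one_mul]
  have uc : ∀ r, K.z₁ * (K.z₀ * r) = K.z₀ * (K.z₁ * r) := fun r => by
    rw [← mul_assoc, K.zc, mul_assoc]
  have g₀₀ : ∀ r, K.z₀ * (K.a₀ * r) = K.a₀ * (K.z₀ * r) := fun r => by rw [← mul_assoc, K.c₀₀, mul_assoc]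
  have g₀₁ : ∀ r, K.z₀ * (K.a₁ * r) = K.a₁ * (K.z₀ * r) := fun r => by rw [← mul_assoc, K.c₀₁, mul_assoc]
  have g₀₂ : ∀ r, K.z₀ * (K.a₂ * r) = K.a₂ * (K.z₀ * r) := fun r => by rw [← mul_assoc, K.c₀₂, mul_assoc]
  have g₀₃ : ∀ r, K.z₀ * (K.a₃ * r) = K.a₃ * (K.z₀ * r) := fun r => by rw [← mul_assoc, K.c₀₃, mul_assoc]
  have g₁₀ : ∀ r, K.z₁ * (K.a₀ * r) = K.a₀ * (K.z₁ * r) := fun r => by rw [← mul_assoc, K.c₁₀, mul_assoc]
  have g₁₁ : ∀ r, K.z₁ * (K.a₁ * r) = K.a₁ * (K.z₁ * r) := fun r => by rw [← mul_assoc, K.c₁₁, mul_assoc]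
  have g₁₂ : ∀ r, K.z₁ * (K.a₂ * r) = K.a₂ * (K.z₁ * r) := fun r => by rw [← mul_assoc, K.c₁₂, mul_assoc]
  have g₁₃ : ∀ r, K.z₁ * (K.a₃ * r) = K.a₃ * (K.z₁ * r) := fun r => by rw [← mul_assoc, K.c₁₃, mul_assoc]
  simp only [List.mem_cons, List.not_mem_nil, or_false] at hg
  interval_cases n <;> rcases hg with rfl | rfl | rfl | rfl | rfl | rfl <;>
    simp [φ, mulC, beta, look, mul_assoc, K.sq₀, K.sq₁, K.sq₂, K.sq₃, K.s₁₀, K.s₂₀, K.s₃₀, K.s₂₁, K.s₃₁,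
      K.s₃₂, K.zz₀, K.zz₁, K.zc, K.c₀₀, K.c₀₁, K.c₀₂, K.c₀₃, K.c₁₀, K.c₁₁, K.c₁₂, K.c₁₃, e₀, e₁, e₂, e₃,
      f₁₀, f₂₀, f₃₀, f₂₁, f₃₁, f₃₂, u₀, u₁, uc, g₀₀, g₀₁, g₀₂, g₀₃, g₁₀, g₁₁, g₁₂, g₁₃]

theorem split_ok : (List.range 64).all (fun j => j == 0 || [1, 2, 4, 8, 16, 32].any fun g =>
    decide (g ≤ j) && decide (j < 2 * g) && mulC (j - g) g == j) = true := by
  decide +kernel

theorem zero_ok : (List.range 64).all (fun i => mulC i 0 == i && mulC 0 i == i) = true := by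
  decide +kernel

theorem φ_mul {i j : ℕ} (hi : i < 64) (hj : j < 64) : K.φ (mulC i j) = K.φ i * K.φ j := by
  induction j using Nat.strong_induction_on with
  | _ j ih =>
    have hz := List.all_eq_true.1 zero_ok i (List.mem_range.2 hi)
    simp only [Bool.and_eq_true, beq_iff_eq] at hz
    have h := List.all_eq_true.1 split_ok j (List.mem_range.2 hj)
    simp only [Bool.or_eq_true, beq_iff_eq, List.any_eq_true, Bool.and_eq_true, decide_eq_true_eq] at h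
    rcases h with rfl | ⟨g, hg, ⟨h1, h2⟩, h3⟩
    · rw [hz.1, K.φ_zero, mul_one]
    · have hg0 : 0 < g := by
        simp only [List.mem_cons, List.not_mem_nil, or_false] at hg
        omega
      calc K.φ (mulC i j) = K.φ (mulC (mulC i (j - g)) g) := by
            rw [model_assoc₀ hi (by omega) hg, h3]
        _ = K.φ i * (K.φ (j - g) * K.φ g) := by
            rw [K.φ_gen (mul_lt hi (by omega)) hg, ih (j - g) (by omega) (by omega), mul_assoc]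
        _ = K.φ i * K.φ j := by rw [← K.φ_gen (by omega) hg, h3]

theorem φ_inv {i : ℕ} (hi : i < 64) : K.φ (invC i) = (K.φ i)⁻¹ := by
  obtain ⟨h1, -, h3⟩ := model_inv hi
  exact eq_inv_of_mul_eq_one_left (by rw [← K.φ_mul h3 hi, h1, φ_zero])

/-- An endomorphism acting on the generators as the automorphism of the model. -/
theorem φ_hom (α : G →* G) (h₀ : α K.a₀ = K.a₁) (h₁ : α K.a₁ = K.a₂) (h₂ : α K.a₂ = K.a₃)
    (h₃ : α K.a₃ = K.a₀ * K.a₁) (k₀ : α K.z₀ = K.z₁) (k₁ : α K.z₁ = K.z₀ * K.z₁) {n : ℕ} (hn : n < 64) :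
    α (K.φ n) = K.φ (hf n) := by
  rw [hf_eq hn, K.φ_mul (mul_lt (by omega) (by omega)) pZ_lt, K.φ_mul (by omega) (by omega)]
  have hz : K.z₁ * (K.z₀ * K.z₁) = K.z₀ := by rw [← mul_assoc, K.zc, mul_assoc, K.zz₁, mul_one]
  simp only [φ, map_mul, map_pow, h₀, h₁, h₂, h₃, k₀, k₁]
  interval_cases n <;> simp [pZ, mul_assoc, hz]

/-- The image of a chart. -/
def map {H : Type v} [Group H] (f : G →* H) : Chart H where
  a₀ := f K.a₀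
  a₁ := f K.a₁
  a₂ := f K.a₂
  a₃ := f K.a₃
  z₀ := f K.z₀
  z₁ := f K.z₁
  sq₀ := by rw [← map_mul, K.sq₀]
  sq₁ := by rw [← map_mul, K.sq₁]
  sq₂ := by rw [← map_mul, K.sq₂, map_mul]
  sq₃ := by rw [← map_mul, K.sq₃]
  s₁₀ := by simp only [← map_mul, K.s₁₀]
  s₂₀ := by simp only [← map_mul, K.s₂₀]
  s₃₀ := by simp only [← map_mul, K.s₃₀]
  s₂₁ := by simp only [← map_mul, K.s₂₁]
  s₃₁ := by simp only [← map_mul, K.s₃₁]
  s₃₂ := by simp only [← map_mul, K.s₃₂]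
  zz₀ := by rw [← map_mul, K.zz₀, map_one]
  zz₁ := by rw [← map_mul, K.zz₁, map_one]
  zc := by simp only [← map_mul, K.zc]
  c₀₀ := by simp only [← map_mul, K.c₀₀]
  c₀₁ := by simp only [← map_mul, K.c₀₁]
  c₀₂ := by simp only [← map_mul, K.c₀₂]
  c₀₃ := by simp only [← map_mul, K.c₀₃]
  c₁₀ := by simp only [← map_mul, K.c₁₀]
  c₁₁ := by simp only [← map_mul, K.c₁₁]
  c₁₂ := by simp only [← map_mul, K.c₁₂]
  c₁₃ := by simp only [← map_mul, K.c₁₃]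

theorem map_φ {H : Type v} [Group H] (f : G →* H) (n : ℕ) : (K.map f).φ n = f (K.φ n) := by
  simp [φ, map]

/-- The elements of the chart. -/
def range : Subgroup G where
  carrier := {q | ∃ n, n < 64 ∧ K.φ n = q}
  one_mem' := ⟨0, by norm_num, K.φ_zero⟩
  mul_mem' := by
    rintro _ _ ⟨i, hi, rfl⟩ ⟨j, hj, rfl⟩
    exact ⟨mulC i j, mul_lt hi hj, K.φ_mul hi hj⟩
  inv_mem' := by
    rintro _ ⟨i, hi, rfl⟩
    exact ⟨invC i, (model_inv hi).2.2, K.φ_inv hi⟩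

end Chart

end CfsgLib.U34Recog
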