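import Cfsg.Agent.Lib.U34Recog.Exists

/-!
# Coordinates of a group of order `62400` with a strongly embedded `2^{2+4} : 15`
-/

namespace CfsgLib.U34Recog

open CfsgLib.SuzukiTwo
open scoped Pointwise

set_option autoImplicit false
set_option linter.style.haveILetI false

universe u

variable {G : Type u} [Group G] [Finite G]

/-- The coordinates. -/
structure Coord (G : Type u) [Group G] [Finite G] where
  P₀ : Sylow 2 G
  P₁ : Sylow 2 G
  K : Chart G
  h : G
  ne : P₁ ≠ P₀
  free : ∀ Q R : Sylow 2 G, Q ≠ R → ∀ q ∈ (Q : Subgroup G), q • R = R → q = 1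
  card_sylow : Nat.card (Sylow 2 G) = 65
  mem : ∀ n, n < 64 → K.φ n ∈ (P₀ : Subgroup G)
  surj : ∀ q ∈ (P₀ : Subgroup G), ∃ n, n < 64 ∧ K.φ n = q
  inj : ∀ i j : ℕ, i < 64 → j < 64 → K.φ i = K.φ j → i = j
  conj : ∀ n, n < 64 → h * K.φ n * h⁻¹ = K.φ (hf n)
  fix₀ : h • P₀ = P₀
  fix₁ : h • P₁ = P₁
  ord : orderOf h = 15
  stab : ∀ g : G, g • P₀ = P₀ → g • P₁ = P₁ → ∃ j : ℕ, j < 15 ∧ g = h ^ j
  cent : ∀ g : G, (∀ q ∈ (P₀ : Subgroup G), g * q = q * g) → g ∈ (P₀ : Subgroup G)

/-- A Sylow subgroup fixes itself. -/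
theorem smul_self_sylow {Q : Sylow 2 G} {q : G} (hq : q ∈ (Q : Subgroup G)) : q • Q = Q :=
  Sylow.smul_eq_iff_mem_normalizer.2 (Subgroup.le_normalizer hq)

/-- An element of a Sylow subgroup fixing another one is trivial. -/
theorem free_of_ti (S : Sylow 2 G)
    (hTI : ∀ g : G, g ∉ Subgroup.normalizer ((S : Subgroup G) : Set G) →
      ∀ x ∈ (S : Subgroup G), g * x * g⁻¹ ∈ (S : Subgroup G) → x = 1)
    (Q R : Sylow 2 G) (hne : Q ≠ R) {q : G} (hq : q ∈ (Q : Subgroup G)) (hR : q • R = R) : q = 1 := by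
  haveI : Fact (Nat.Prime 2) := ⟨Nat.prime_two⟩
  have hp : IsPGroup 2 (Subgroup.zpowers q) := Q.2.to_le (Subgroup.zpowers_le.2 hq)
  have hqR := ((hp.inf_normalizer_sylow R).le
    ⟨Subgroup.mem_zpowers q, Sylow.smul_eq_iff_mem_normalizer.1 hR⟩).2
  obtain ⟨x, rfl⟩ := MulAction.exists_smul_eq G S Q
  obtain ⟨y, rfl⟩ := MulAction.exists_smul_eq G S R
  have hmem : ∀ (a : G) (r : G), r ∈ ((a • S : Sylow 2 G) : Subgroup G) → a⁻¹ * r * a ∈ (S : Subgroup G) := by
    intro a r hr
    rw [Sylow.coe_subgroup_smul, Subgroup.mem_pointwise_smul_iff_inv_smul_mem] at hr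
    simpa [MulAut.smul_def, MulAut.conj_inv_apply] using hr
  have hg : y⁻¹ * x ∉ Subgroup.normalizer ((S : Subgroup G) : Set G) := fun h => hne (by
    have h2 := Sylow.smul_eq_iff_mem_normalizer.2 h
    rw [mul_smul, inv_smul_eq_iff] at h2
    exact h2)
  have h1 := hTI _ hg _ (hmem x q hq) (by
    convert hmem y q hqR using 1
    group)
  calc q = x * (x⁻¹ * q * x) * x⁻¹ := by group
    _ = 1 := by rw [h1]; group

/-- A group of order fifteen has an element of that order. -/
theorem exists_orderOf_fifteen {H : Type u} [Group H] [Finite H] (hH : Nat.card H = 15) :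
    ∃ x : H, orderOf x = 15 := by
  haveI : Fact (Nat.Prime 3) := ⟨Nat.prime_three⟩
  haveI : Fact (Nat.Prime 5) := ⟨by norm_num⟩
  obtain ⟨u, hu⟩ := exists_prime_orderOf_dvd_card' (G := H) 5 (by rw [hH]; norm_num)
  obtain ⟨w, hw⟩ := exists_prime_orderOf_dvd_card' (G := H) 3 (by rw [hH]; norm_num)
  have hi : (Subgroup.zpowers u).index = 3 := by
    have := Subgroup.card_mul_index (Subgroup.zpowers u)
    rw [Nat.card_zpowers, hu, hH] at this
    omega
  haveI hn : (Subgroup.zpowers u).Normal :=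
    Subgroup.normal_of_index_eq_minFac_card (by rw [hi, hH]; norm_num)
  obtain ⟨i, hiu⟩ := mem_powers_iff_mem_zpowers.2 (hn.conj_mem u (Subgroup.mem_zpowers u) w)
  simp only at hiu
  have hcj : ∀ k : ℕ, w ^ k * u * (w ^ k)⁻¹ = u ^ (i ^ k) := by
    intro k
    induction k with
    | zero => simp
    | succ k ih =>
      calc w ^ (k + 1) * u * (w ^ (k + 1))⁻¹ = w * (w ^ k * u * (w ^ k)⁻¹) * w⁻¹ := by rw [pow_succ']; group
        _ = (w * u * w⁻¹) ^ (i ^ k) := by rw [ih, conj_pow]
        _ = u ^ (i ^ (k + 1)) := by rw [← hiu, ← pow_mul, ← pow_succ']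
  have h3 := hcj 3
  rw [← hw, pow_orderOf_eq_one, hw, one_mul, inv_one, mul_one] at h3
  have hmod : i ^ 3 % 5 = 1 := by
    have h' : u ^ 1 = u ^ (i ^ 3) := by rw [pow_one]; exact h3
    rw [pow_eq_pow_iff_modEq, hu] at h'
    exact h'.symm
  have hi1 : i % 5 = 1 := by
    have : (i % 5) ^ 3 % 5 = 1 := by rw [← Nat.pow_mod, hmod]
    have h5 : i % 5 < 5 := Nat.mod_lt _ (by norm_num)
    revert this h5
    generalize i % 5 = r
    intro this h5
    interval_cases r <;> omega
  have hcomm : Commute w u := by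
    have : w * u * w⁻¹ = u := by
      rw [← hiu, ← pow_mod_orderOf, hu, hi1, pow_one]
    exact mul_inv_eq_iff_eq_mul.1 this
  refine ⟨w * u, ?_⟩
  rw [hcomm.orderOf_mul_eq_mul_orderOf_of_coprime (by rw [hu, hw]; norm_num), hu, hw]

/-- Coordinates exist. -/
theorem exists_coord (S : Sylow 2 G) (hs : Sixty (S : Subgroup G)) (hcard : Nat.card G = 62400)
    (hN : Nat.card (Subgroup.normalizer ((S : Subgroup G) : Set G)) = 960)
    (hC : Subgroup.centralizer ((S : Subgroup G) : Set G) ≤ (S : Subgroup G))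
    (hTI : ∀ g : G, g ∉ Subgroup.normalizer ((S : Subgroup G) : Set G) →
      ∀ x ∈ (S : Subgroup G), g * x * g⁻¹ ∈ (S : Subgroup G) → x = 1) : Nonempty (Coord G) := by
  classical
  haveI : Fact (Nat.Prime 2) := ⟨Nat.prime_two⟩
  have free := free_of_ti S hTI
  have hS : Nat.card (S : Subgroup G) = 64 := hs.card
  have hn65 : Nat.card (Sylow 2 G) = 65 := by
    have h := Subgroup.card_mul_index (Subgroup.normalizer ((S : Subgroup G) : Set G))
    have h2 : Nat.card (Sylow 2 G) = (Subgroup.normalizer ((S : Subgroup G) : Set G)).index :=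
      Sylow.card_eq_index_normalizer S
    rw [hN, hcard, ← h2] at h
    omega
  obtain ⟨R, hR⟩ : ∃ R : Sylow 2 G, R ≠ S := by
    by_contra h
    push Not at h
    haveI : Subsingleton (Sylow 2 G) := ⟨fun x y => (h x).trans (h y).symm⟩
    rw [Nat.card_of_subsingleton S] at hn65
    omega
  set H := MulAction.stabilizer G S ⊓ MulAction.stabilizer G R with hH
  have hpt : Function.Bijective (fun q : (S : Subgroup G) =>
      (⟨(q : G) • R, fun h => hR (by
        rw [← inv_smul_smul (q : G) R, h]; exact smul_self_sylow (inv_mem q.2))⟩ : {Q : Sylow 2 G // Q ≠ S})) := by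
    refine (Nat.bijective_iff_injective_and_card _).2 ⟨fun x y hxy => ?_, ?_⟩
    · have h := congrArg Subtype.val hxy
      simp only at h
      have h1 : ((y : G)⁻¹ * x) = 1 := free S R hR.symm (mul_mem (inv_mem y.2) x.2) (by
        rw [mul_smul, h, inv_smul_smul])
      exact Subtype.ext (inv_mul_eq_one.1 h1).symm
    · haveI : Fintype (Sylow 2 G) := Fintype.ofFinite _
      rw [hS, Nat.card_eq_fintype_card, Fintype.card_subtype_compl, Fintype.card_subtype_eq,
        ← Nat.card_eq_fintype_card, hn65]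
  have hH15 : Nat.card H = 15 := by
    have e : Function.Bijective (fun x : ↥(S : Subgroup G) × H =>
        (⟨(x.1 : G) * (x.2 : G), by
          rw [MulAction.mem_stabilizer_iff, mul_smul, MulAction.mem_stabilizer_iff.1 x.2.2.1]
          exact smul_self_sylow x.1.2⟩ : MulAction.stabilizer G S)) := by
      refine ⟨fun x y hxy => ?_, fun g => ?_⟩
      · have h := congrArg Subtype.val hxy
        simp only at h
        have h2 : (x.1 : G) • R = (y.1 : G) • R := by
          have := congrArg (fun u : G => u • R) h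
          simp only [mul_smul, MulAction.mem_stabilizer_iff.1 x.2.2.2,
            MulAction.mem_stabilizer_iff.1 y.2.2.2] at this
          exact this
        have h1 : x.1 = y.1 := hpt.1 (Subtype.ext h2)
        rw [h1] at h
        exact Prod.ext h1 (Subtype.ext (mul_left_cancel h))
      · have hne : (g : G) • R ≠ S := fun h => hR (smul_left_cancel (g : G)
          (h.trans (MulAction.mem_stabilizer_iff.1 g.2).symm))
        obtain ⟨q, hq⟩ := hpt.2 ⟨(g : G) • R, hne⟩
        have hq' : (q : G) • R = (g : G) • R := congrArg Subtype.val hq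
        refine ⟨(q, ⟨(q : G)⁻¹ * g, ?_, ?_⟩), Subtype.ext (mul_inv_cancel_left _ _)⟩
        · refine MulAction.mem_stabilizer_iff.2 ?_
          rw [mul_smul, MulAction.mem_stabilizer_iff.1 g.2]
          exact smul_self_sylow (inv_mem q.2)
        · refine MulAction.mem_stabilizer_iff.2 ?_
          rw [mul_smul, ← hq', inv_smul_smul]
    have := Nat.card_eq_of_bijective _ e
    have e2 : Nat.card (MulAction.stabilizer G S) = 960 := by
      rw [Sylow.stabilizer_eq_normalizer]; exact hN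
    rw [Nat.card_prod, hS, e2] at this
    omega
  obtain ⟨⟨x, hxH⟩, hx⟩ := exists_orderOf_fifteen hH15
  rw [← Subgroup.orderOf_coe] at hx
  have hxN : x ∈ Subgroup.normalizer ((S : Subgroup G) : Set G) :=
    Sylow.smul_eq_iff_mem_normalizer.1 (MulAction.mem_stabilizer_iff.1 hxH.1)
  set α : MulAut (S : Subgroup G) := Subgroup.normalizerMonoidHom (S : Subgroup G) ⟨x, hxN⟩ with hα
  have hαk : ∀ (k : ℕ) (q : (S : Subgroup G)), ((α ^ k) q : G) = x ^ k * q * (x ^ k)⁻¹ := by
    intro k q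
    rw [hα, ← map_pow]
    rfl
  have hfaith : ∀ k : ℕ, α ^ k = 1 → x ^ k = 1 := by
    intro k hk
    have hmem : x ^ k ∈ (S : Subgroup G) := hC (Subgroup.mem_centralizer_iff.2 fun q hq => by
      have := hαk k ⟨q, hq⟩
      rw [hk, MulAut.one_apply] at this
      exact (eq_mul_inv_iff_mul_eq.1 this))
    exact free S R hR.symm hmem (MulAction.mem_stabilizer_iff.1 (pow_mem hxH.2 k))
  have h15 : α ^ 15 = 1 := MulEquiv.ext fun q => Subtype.ext (by
    rw [hαk, ← hx, pow_orderOf_eq_one]; simp)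
  obtain ⟨j, K, hj, hKtop, hKconj⟩ := exists_chart hs α h15
    (fun h => by
      have := orderOf_dvd_of_pow_eq_one (hfaith 3 h); rw [hx] at this; omega)
    (fun h => by
      have := orderOf_dvd_of_pow_eq_one (hfaith 5 h); rw [hx] at this; omega)
  have hjc : Nat.Coprime 15 j := by rcases hj with rfl | rfl <;> norm_num
  have hord : orderOf (x ^ j) = 15 := by rw [Nat.Coprime.orderOf_pow (hx ▸ hjc), hx]
  have hxj : x ^ j ∈ H := pow_mem hxH j
  have hmem : ∀ n, n < 64 → (K.map (S : Subgroup G).subtype).φ n ∈ (S : Subgroup G) := fun n _ => by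
    rw [Chart.map_φ]; exact (K.φ n).2
  have hsurj : Function.Surjective (fun n : Fin 64 => K.φ n) := fun q => by
    obtain ⟨n, hn, hq⟩ : q ∈ K.range := by rw [hKtop]; trivial
    exact ⟨⟨n, hn⟩, hq⟩
  have hbij : Function.Bijective (fun n : Fin 64 => K.φ n) := hsurj.bijective_of_nat_card_le (by
    rw [hS, Nat.card_eq_fintype_card, Fintype.card_fin])
  refine ⟨{
    P₀ := S, P₁ := R, K := K.map (S : Subgroup G).subtype, h := x ^ j
    ne := hR, free := fun Q Q' hQ q hq hQ' => free Q Q' hQ hq hQ'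
    card_sylow := hn65, mem := hmem
    surj := fun q hq => by
      obtain ⟨n, hn⟩ := hsurj ⟨q, hq⟩
      exact ⟨n, n.2, by rw [Chart.map_φ]; exact congrArg Subtype.val hn⟩
    inj := fun i l hi hl h => by
      rw [Chart.map_φ, Chart.map_φ] at h
      exact congrArg Fin.val (@hbij.1 ⟨i, hi⟩ ⟨l, hl⟩ (Subtype.ext h))
    conj := fun n hn => by
      rw [Chart.map_φ, Chart.map_φ, ← hKconj n hn]
      exact (hαk j (K.φ n)).symm
    fix₀ := MulAction.mem_stabilizer_iff.1 hxj.1
    fix₁ := MulAction.mem_stabilizer_iff.1 hxj.2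
    ord := hord
    stab := fun g h0 h1 => ?_
    cent := fun g hg => hC (Subgroup.mem_centralizer_iff.2 fun q hq => (hg q hq).symm) }⟩
  have hz : Subgroup.zpowers (x ^ j) = H := Subgroup.eq_of_le_of_card_ge (Subgroup.zpowers_le.2 hxj)
    (by rw [hH15, Nat.card_zpowers, hord])
  have hg : g ∈ Subgroup.zpowers (x ^ j) := by
    rw [hz]; exact ⟨MulAction.mem_stabilizer_iff.2 h0, MulAction.mem_stabilizer_iff.2 h1⟩
  obtain ⟨k, hk⟩ := (mem_powers_iff_mem_zpowers.2 hg)
  refine ⟨k % 15, Nat.mod_lt _ (by norm_num), ?_⟩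
  rw [← hord, pow_mod_orderOf]
  exact hk.symm

end CfsgLib.U34Recog
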