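import Mathlib

/-!
# An automorphism of order `15` of an elementary abelian group of order `16`

An endomorphism `X` with `X¹⁵ = 1` whose fifth and third powers fix no nonzero vector has a vector `v`
with `X⁴ v = v + X v` or `X¹⁴` has one.
-/

namespace CfsgLib.U34Recog

set_option autoImplicit false

universe u

variable {A : Type u} [AddCommGroup A] [Finite A]

/-- A subgroup invariant under an endomorphism of order dividing five without nonzero fixed vectors is
congruent to one modulo five. -/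
theorem card_mod_five {Y : AddMonoid.End A} (h5 : Y ^ 5 = 1) (hY : ∀ a, Y a = a → a = 0)
    (U : AddSubgroup A) (hU : ∀ a ∈ U, Y a ∈ U) : Nat.card U % 5 = 1 := by
  classical
  haveI : Fintype U := Fintype.ofFinite U
  haveI : Fact (Nat.Prime 5) := ⟨by norm_num⟩
  let f : Function.End U := fun a => ⟨Y a, hU a a.2⟩
  have hpow : ∀ (n : ℕ) (a : U), ((f ^ n) a : A) = (Y ^ n) a := by
    intro n
    induction n with
    | zero => intro a; rfl
    | succ n ih =>
      intro a
      rw [pow_succ', pow_succ']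
      show Y ((f ^ n) a : A) = Y ((Y ^ n) a)
      rw [ih]
  have hf : f ^ 5 ^ 1 = 1 := funext fun a => Subtype.ext (by rw [pow_one, hpow, h5]; rfl)
  have h := Equiv.Perm.card_fixedPoints_modEq (p := 5) (n := 1) hf
  have h1 : Fintype.card (Function.fixedPoints f) = 1 := by
    rw [Fintype.card_eq_one_iff]
    refine ⟨⟨0, Subtype.ext (by show Y ((0 : U) : A) = _; simp)⟩, fun a => ?_⟩
    have := congrArg Subtype.val (a.2 : f a.1 = a.1)
    exact Subtype.ext (Subtype.ext (hY _ this))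
  rw [h1] at h
  rw [Nat.card_eq_fintype_card]
  exact h

/-- In a group of order sixteen such a subgroup is trivial. -/
theorem bot_or_top (hA : Nat.card A = 16) {Y : AddMonoid.End A} (h5 : Y ^ 5 = 1) (hY : ∀ a, Y a = a → a = 0)
    (U : AddSubgroup A) (hU : ∀ a ∈ U, Y a ∈ U) : U = ⊥ ∨ U = ⊤ := by
  have h := card_mod_five h5 hY U hU
  have hd : Nat.card U ∣ 16 := hA ▸ AddSubgroup.card_addSubgroup_dvd_card U
  have hle : Nat.card U ≤ 16 := Nat.le_of_dvd (by norm_num) hd
  rcases (show Nat.card U = 1 ∨ Nat.card U = 16 by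
    revert h hd
    generalize Nat.card U = n at hle ⊢
    interval_cases n <;> decide) with e | e
  · exact Or.inl (AddSubgroup.eq_bot_of_card_eq _ e)
  · exact Or.inr (AddSubgroup.eq_top_of_card_eq _ (by rw [e, hA]))

/-- The vectors fixed by an endomorphism. -/
def fixedSub (T : AddMonoid.End A) : AddSubgroup A where
  carrier := {a | T a = a}
  zero_mem' := map_zero T
  add_mem' := fun {a b} ha hb => by simp only [Set.mem_ofPred_eq] at ha hb ⊢; rw [map_add, ha, hb]
  neg_mem' := fun {a} ha => by simp only [Set.mem_ofPred_eq] at ha ⊢; rw [map_neg, ha]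

/-- An endomorphism `Y` of order dividing five other than the identity fixes no nonzero vector. -/
theorem fix_five (hA : Nat.card A = 16) {Y : AddMonoid.End A} (h5 : Y ^ 5 = 1) (hne : Y ≠ 1) :
    ∀ a, Y a = a → a = 0 := by
  classical
  haveI : Fintype A := Fintype.ofFinite A
  haveI : Fact (Nat.Prime 5) := ⟨by norm_num⟩
  let f : Function.End A := fun a => Y a
  have hpow : ∀ (n : ℕ) (a : A), (f ^ n) a = (Y ^ n) a := by
    intro n
    induction n with
    | zero => intro a; rfl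
    | succ n ih =>
      intro a
      rw [pow_succ', pow_succ']
      show Y ((f ^ n) a) = Y ((Y ^ n) a)
      rw [ih]
  have hf : f ^ 5 ^ 1 = 1 := funext fun a => by rw [pow_one, hpow, h5]; rfl
  have h := Equiv.Perm.card_fixedPoints_modEq (p := 5) (n := 1) hf
  have hcard : Fintype.card (Function.fixedPoints f) = Nat.card (fixedSub Y) := by
    rw [← Nat.card_eq_fintype_card]; rfl
  rw [hcard, ← Nat.card_eq_fintype_card, hA] at h
  have hd : Nat.card (fixedSub Y) ∣ 16 := hA ▸ AddSubgroup.card_addSubgroup_dvd_card _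
  have hle : Nat.card (fixedSub Y) ≤ 16 := Nat.le_of_dvd (by norm_num) hd
  rcases (show Nat.card (fixedSub Y) = 1 ∨ Nat.card (fixedSub Y) = 16 by
    revert h hd
    generalize Nat.card (fixedSub Y) = n at hle ⊢
    interval_cases n <;> decide) with e | e
  · intro a ha
    exact (AddSubgroup.eq_bot_iff_forall _).1 (AddSubgroup.eq_bot_of_card_eq _ e) a ha
  · exfalso
    refine hne (AddMonoidHom.ext fun a => ?_)
    have : a ∈ fixedSub Y := by
      rw [AddSubgroup.eq_top_of_card_eq (fixedSub Y) (by rw [e, hA])]; trivial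
    exact this

/-- The factorisation behind the minimal polynomial. -/
theorem factor {E : Type*} [Ring E] (x : E) :
    (x ^ 4 + x + 1) * (x ^ 4 + x ^ 3 + 1) * (x ^ 4 + x ^ 3 + x ^ 2 + x + 1) =
      ((x ^ 3) ^ 4 + (x ^ 3) ^ 3 + (x ^ 3) ^ 2 + x ^ 3 + 1) +
        2 * (x + x ^ 2 + x ^ 3 + 3 * x ^ 4 + 3 * x ^ 5 + 2 * x ^ 6 + 3 * x ^ 7 + 3 * x ^ 8 + x ^ 9 + x ^ 10 +
          x ^ 11) := by
  have hp : (((Polynomial.X : Polynomial ℤ) ^ 4 + Polynomial.X + 1) * (Polynomial.X ^ 4 + Polynomial.X ^ 3 + 1) *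
      (Polynomial.X ^ 4 + Polynomial.X ^ 3 + Polynomial.X ^ 2 + Polynomial.X + 1)) =
      ((Polynomial.X ^ 3) ^ 4 + (Polynomial.X ^ 3) ^ 3 + (Polynomial.X ^ 3) ^ 2 + Polynomial.X ^ 3 + 1) +
        2 * (Polynomial.X + Polynomial.X ^ 2 + Polynomial.X ^ 3 + 3 * Polynomial.X ^ 4 + 3 * Polynomial.X ^ 5 +
          2 * Polynomial.X ^ 6 + 3 * Polynomial.X ^ 7 + 3 * Polynomial.X ^ 8 + Polynomial.X ^ 9 +
          Polynomial.X ^ 10 + Polynomial.X ^ 11) := by
    ring
  simpa only [map_add, map_mul, map_pow, Polynomial.aeval_X, map_one, map_ofNat] using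
    congrArg (Polynomial.aeval x) hp

/-- A vector with `X⁴ v = v + X v`, for `X` or its inverse, generating the space. -/
theorem exists_vector (hA : Nat.card A = 16) (h2 : ∀ a : A, a + a = 0) (X : AddMonoid.End A)
    (h15 : X ^ 15 = 1) (h3 : X ^ 3 ≠ 1) (h5 : X ^ 5 ≠ 1) :
    ∃ (j : ℕ) (v : A), (j = 1 ∨ j = 14) ∧ v ≠ 0 ∧ ((X ^ j) ^ 4) v = v + (X ^ j) v ∧
      AddSubgroup.closure ({v, (X ^ j) v, ((X ^ j) ^ 2) v, ((X ^ j) ^ 3) v} : Set A) = ⊤ := by
  classical
  have hneg : ∀ a : A, -a = a := fun a => neg_eq_of_add_eq_zero_left (h2 a)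
  have hadd : ∀ (f g : AddMonoid.End A) (a : A), (f + g) a = f a + g a := fun _ _ _ => rfl
  have happ : ∀ (m n : ℕ) (a : A), (X ^ (m + n)) a = (X ^ m) ((X ^ n) a) := fun m n a => by
    rw [pow_add]; rfl
  -- no power of exponent five fixes a nonzero vector
  have hy : ∀ j, (X ^ (3 * j)) ^ 5 = 1 := fun j => by
    rw [← pow_mul, show 3 * j * 5 = 15 * j by ring, pow_mul, h15, one_pow]
  have hY : ∀ a, (X ^ 3) a = a → a = 0 := fix_five hA (by simpa using hy 1) h3
  have ht : ∀ a, (X ^ 5) a = a → a = 0 := by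
    intro a ha
    rcases bot_or_top hA (by simpa using hy 1) hY (fixedSub (X ^ 5)) (fun b hb => by
        show (X ^ 5) ((X ^ 3) b) = (X ^ 3) b
        rw [← happ, show 5 + 3 = 3 + 5 by rfl, happ]
        exact congrArg _ hb) with e | e
    · exact (AddSubgroup.eq_bot_iff_forall _).1 e a ha
    · exfalso
      refine h5 (AddMonoidHom.ext fun b => ?_)
      have : b ∈ fixedSub (X ^ 5) := by rw [e]; trivial
      exact this
  set P := X ^ 4 + X + 1 with hP
  set Q := X ^ 4 + X ^ 3 + 1 with hQ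
  set R := X ^ 4 + X ^ 3 + X ^ 2 + X + 1 with hR
  have hRinj : Function.Injective R := by
    refine (injective_iff_map_eq_zero R).2 fun a ha => ht a ?_
    have h := congrArg X ha
    have e : R a = (X ^ 4) a + (X ^ 3) a + (X ^ 2) a + X a + a := rfl
    rw [e] at ha h
    simp only [map_add, map_zero] at h
    have e1 : ∀ n, X ((X ^ n) a) = (X ^ (n + 1)) a := fun n => by rw [pow_succ']; rfl
    rw [e1, e1, e1, show X (X a) = (X ^ 2) a from rfl] at h
    linear_combination (norm := abel) h - ha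
  have hS : ∀ a, ((X ^ 3) ^ 4 + (X ^ 3) ^ 3 + (X ^ 3) ^ 2 + X ^ 3 + 1 : AddMonoid.End A) a = 0 := by
    intro a
    refine hY _ ?_
    set Y := X ^ 3 with hYdef
    have hY5 : Y ^ 5 = 1 := by simpa [hYdef] using hy 1
    show (Y * (Y ^ 4 + Y ^ 3 + Y ^ 2 + Y + 1) : AddMonoid.End A) a = _
    refine congrFun (congrArg DFunLike.coe ?_) a
    rw [mul_add, mul_add, mul_add, mul_add, ← pow_succ', ← pow_succ', ← pow_succ', hY5, mul_one, ← pow_two]
    abel
  have hPQ : ∀ a, P (Q a) = 0 := by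
    intro a
    obtain ⟨b, rfl⟩ := (Finite.injective_iff_surjective.1 hRinj) a
    show (P * Q * R : AddMonoid.End A) b = 0
    rw [hP, hQ, hR, factor, hadd, hS, two_mul, hadd, h2, add_zero]
  -- generation
  have gen : ∀ (j : ℕ) (v : A), (X ^ j) ^ 3 ≠ 1 → v ≠ 0 → ((X ^ j) ^ 4) v = v + (X ^ j) v →
      AddSubgroup.closure ({v, (X ^ j) v, ((X ^ j) ^ 2) v, ((X ^ j) ^ 3) v} : Set A) = ⊤ := by
    intro j v hne hv h4
    set Z := X ^ j with hZ
    set U := AddSubgroup.closure ({v, Z v, (Z ^ 2) v, (Z ^ 3) v} : Set A) with hU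
    have hm : ∀ a ∈ U, Z a ∈ U := by
      intro a ha
      have hle : U ≤ U.comap Z := by
        rw [hU, AddSubgroup.closure_le]
        rintro b (rfl | rfl | rfl | rfl)
        · exact AddSubgroup.subset_closure (Or.inr (Or.inl rfl))
        · exact AddSubgroup.subset_closure (Or.inr (Or.inr (Or.inl rfl)))
        · refine AddSubgroup.mem_comap.2 ((?_ : (Z ^ 3) v ∈ U))
          exact AddSubgroup.subset_closure (Or.inr (Or.inr (Or.inr rfl)))
        · refine AddSubgroup.mem_comap.2 ((?_ : (Z ^ 4) v ∈ U))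
          rw [h4]
          exact add_mem (AddSubgroup.subset_closure (Or.inl rfl))
            (AddSubgroup.subset_closure (Or.inr (Or.inl rfl)))
      exact hle ha
    have hy5 : (Z ^ 3) ^ 5 = 1 := by
      rw [hZ, ← pow_mul X, show j * 3 = 3 * j by ring]; exact hy j
    refine (bot_or_top hA hy5 (fix_five hA hy5 hne) U fun a ha => ?_).resolve_left fun e => ?_
    · show (Z ^ 3) a ∈ U
      rw [show (Z ^ 3) a = Z (Z (Z a)) from rfl]
      exact hm _ (hm _ (hm _ ha))
    · exact hv ((AddSubgroup.eq_bot_iff_forall _).1 e v (AddSubgroup.subset_closure (Or.inl rfl)))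
  by_cases hQ0 : ∀ a, Q a = 0
  · obtain ⟨v, hv⟩ : ∃ v : A, v ≠ 0 := by
      by_contra h
      push Not at h
      haveI : Subsingleton A := ⟨fun x y => (h x).trans (h y).symm⟩
      rw [Nat.card_of_subsingleton (0 : A)] at hA
      omega
    have h14 : (X ^ 14) ^ 3 ≠ 1 := fun h => h3 (by
      rw [← pow_mul, show 14 * 3 = 15 * 2 + 12 by norm_num, pow_add, pow_mul, h15, one_pow, one_mul] at h
      calc X ^ 3 = X ^ 3 * X ^ 12 := by rw [h, mul_one]
        _ = 1 := by rw [← pow_add, h15])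
    have h4 : ((X ^ 14) ^ 4) v = v + (X ^ 14) v := by
      have h := hQ0 ((X ^ 11) v)
      have e : Q ((X ^ 11) v) = (X ^ 4) ((X ^ 11) v) + (X ^ 3) ((X ^ 11) v) + (X ^ 11) v := rfl
      rw [e, ← happ, ← happ, h15] at h
      have e4 : (X ^ 14) ^ 4 = X ^ 11 := by
        rw [← pow_mul, show 14 * 4 = 15 * 3 + 11 by norm_num, pow_add, pow_mul, h15, one_pow, one_mul]
      rw [e4, ← hneg ((X ^ 11) v)]
      exact neg_eq_of_add_eq_zero_left (by simpa using h)
    exact ⟨14, v, Or.inr rfl, hv, h4, gen 14 v h14 hv h4⟩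
  · push Not at hQ0
    obtain ⟨a, ha⟩ := hQ0
    have h4 : ((X ^ 1) ^ 4) (Q a) = Q a + (X ^ 1) (Q a) := by
      have h := hPQ a
      have e : P (Q a) = (X ^ 4) (Q a) + X (Q a) + Q a := rfl
      rw [e] at h
      rw [pow_one, ← hneg ((X ^ 4) (Q a))]
      refine neg_eq_of_add_eq_zero_left ?_
      rw [← h]; abel
    exact ⟨1, Q a, Or.inl rfl, ha, h4, gen 1 _ (by simpa using h3) ha h4⟩

end CfsgLib.U34Recog
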