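import Cfsg.Agent.Lib.SuzukiTwo.SixtyFour
import Cfsg.Agent.Lib.U34Recog.Chart
import Cfsg.Agent.Lib.U34Recog.Singer

/-!
# Coordinates of a Suzuki `2`-group of order `64` adapted to an automorphism of order `15`
-/

namespace CfsgLib.U34Recog

open CfsgLib.SuzukiTwo
open scoped commutatorElement

set_option autoImplicit false
set_option linter.style.haveILetI false
set_option linter.unusedSimpArgs false

universe u

variable {W : Type u} [Group W] [Finite W]

/-- Powers of an automorphism preserve the centre. -/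
theorem aut_center (α : MulAut W) {z : W} (hz : z ∈ Subgroup.center W) : α z ∈ Subgroup.center W := by
  rw [Subgroup.mem_center_iff] at hz ⊢
  intro g
  have := congrArg α (hz (α.symm g))
  simpa using this

/-- An automorphism of odd order trivial modulo the centre is trivial. -/
theorem eq_one_of_trivial_mod (hs : Sixty W) {y : MulAut W} {m : ℕ} (hm : y ^ m = 1) (hodd : Odd m)
    (h : ∀ w, w⁻¹ * y w ∈ Subgroup.center W) : y = 1 := by
  classical
  have hsq : ∀ w, y (w * w) = w * w := fun w => by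
    obtain ⟨e, he, hwe⟩ : ∃ e ∈ Subgroup.center W, y w = w * e :=
      ⟨_, h w, (mul_inv_cancel_left _ _).symm⟩
    have hc := Subgroup.mem_center_iff.1 he
    rw [map_mul, hwe]
    calc w * e * (w * e) = w * (e * w) * e := by group
      _ = w * (w * e) * e := by rw [hc w]
      _ = w * w * (e * e) := by group
      _ = w * w := by rw [hs.cen e he, mul_one]
  have hcen : ∀ z ∈ Subgroup.center W, y z = z := by
    intro z hz
    obtain ⟨p, hp⟩ : ∃ p : W, p ∉ Subgroup.center W := by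
      by_contra hh
      push Not at hh
      have := Subgroup.card_le_of_le (show (⊤ : Subgroup W) ≤ Subgroup.center W from fun x _ => hh x)
      rw [Subgroup.card_top, hs.card, hs.card_center] at this
      omega
    obtain ⟨q, rfl⟩ := hs.surj p hp z hz
    have hc : p * (q * q) = q * q * p := Subgroup.mem_center_iff.1 (hs.sq q) p
    have e : ⁅p, q⁆ = (p * q) * (p * q) * ((p * p)⁻¹ * (q * q)⁻¹) := by
      have hq : q⁻¹ * (p * p)⁻¹ = (p * p)⁻¹ * q⁻¹ :=
        Subgroup.mem_center_iff.1 (inv_mem (hs.sq p)) q⁻¹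
      have hp' : p⁻¹ * (q * q)⁻¹ = (q * q)⁻¹ * p⁻¹ :=
        Subgroup.mem_center_iff.1 (inv_mem (hs.sq q)) p⁻¹
      rw [commutatorElement_def]
      calc p * q * p⁻¹ * q⁻¹ = p * q * p * ((p * p)⁻¹ * q⁻¹) := by group
        _ = p * q * p * (q⁻¹ * (p * p)⁻¹) := by rw [hq]
        _ = p * q * p * q * ((q * q)⁻¹ * (p * p)⁻¹) := by group
        _ = p * q * p * q * ((p * p)⁻¹ * (q * q)⁻¹) := by
            rw [Subgroup.mem_center_iff.1 (inv_mem (hs.sq q)) (p * p)⁻¹]
        _ = _ := by group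
    rw [e, map_mul, hsq, map_mul, map_inv, map_inv, hsq, hsq]
  refine MulEquiv.ext fun w => ?_
  obtain ⟨e, he, hwe⟩ : ∃ e ∈ Subgroup.center W, y w = w * e :=
    ⟨_, h w, (mul_inv_cancel_left _ _).symm⟩
  have hk : ∀ k : ℕ, (y ^ k) w = w * e ^ k := by
    intro k
    induction k with
    | zero => simp
    | succ k ih =>
      rw [pow_succ', MulAut.mul_apply, ih, map_mul, map_pow, hwe, hcen e he, mul_assoc, ← pow_succ']
  have h1 : e ^ m = 1 := by simpa [hm] using (hk m).symm
  obtain ⟨k, hk'⟩ := hodd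
  rw [hk', pow_succ, pow_mul, sq, hs.cen e he, one_pow, one_mul] at h1
  rw [hwe, h1, mul_one]
  rfl

/-- An automorphism whose order divides fifteen has order dividing three on the centre. -/
theorem three_on_center (hs : Sixty W) {β : MulAut W} (h15 : β ^ 15 = 1) {z : W}
    (hz : z ∈ Subgroup.center W) : β (β (β z)) = z := by
  classical
  haveI : Fintype (Subgroup.center W) := Fintype.ofFinite _
  haveI : Fact (Nat.Prime 5) := ⟨by norm_num⟩
  let f : Function.End (Subgroup.center W) := fun x => ⟨(β ^ 3) x, aut_center _ x.2⟩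
  have hpow : ∀ (n : ℕ) (x : Subgroup.center W), ((f ^ n) x : W) = ((β ^ 3) ^ n) x := by
    intro n
    induction n with
    | zero => intro x; rfl
    | succ n ih =>
      intro x
      rw [pow_succ', pow_succ']
      show (β ^ 3) ((f ^ n) x : W) = (β ^ 3) (((β ^ 3) ^ n) x)
      rw [ih]
  have hf : f ^ 5 ^ 1 = 1 := funext fun x => Subtype.ext (by
    rw [pow_one, hpow, ← pow_mul, h15]; rfl)
  have h := Equiv.Perm.card_fixedPoints_modEq (p := 5) (n := 1) hf
  rw [← Nat.card_eq_fintype_card, hs.card_center] at h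
  have hle : Fintype.card (Function.fixedPoints f) ≤ 4 := by
    rw [← hs.card_center, Nat.card_eq_fintype_card]
    exact Fintype.card_subtype_le _
  have hfull : Fintype.card (Function.fixedPoints f) = Fintype.card (Subgroup.center W) := by
    rw [← Nat.card_eq_fintype_card (α := Subgroup.center W), hs.card_center]
    unfold Nat.ModEq at h
    omega
  have hsurj : Function.Surjective (fun x : Function.fixedPoints f => x.1) :=
    ((Fintype.bijective_iff_injective_and_card _).2 ⟨Subtype.val_injective, hfull⟩).2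
  obtain ⟨x, hx⟩ := hsurj ⟨z, hz⟩
  have := congrArg Subtype.val (x.2 : f x.1 = x.1)
  rw [show x.1 = ⟨z, hz⟩ from hx] at this
  exact this

/-- Reordering two elements whose squares and product square are given. -/
theorem swap_of_sq (hs : Sixty W) {p q e₁ e₂ e₃ : W} (h₁ : p * p = e₁) (h₂ : q * q = e₂)
    (h₃ : (p * q) * (p * q) = e₃) : q * p = p * (q * (e₁ * e₂ * e₃)) := by
  have hc₁ := Subgroup.mem_center_iff.1 (h₁ ▸ hs.sq p)
  have hc₂ := Subgroup.mem_center_iff.1 (h₂ ▸ hs.sq q)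
  have hc₃ := Subgroup.mem_center_iff.1 (h₃ ▸ hs.sq (p * q))
  have hp : p⁻¹ = p * e₁ :=
    inv_eq_of_mul_eq_one_right (by rw [← mul_assoc, h₁, hs.cen _ (h₁ ▸ hs.sq p)])
  have hq : q⁻¹ = q * e₂ :=
    inv_eq_of_mul_eq_one_right (by rw [← mul_assoc, h₂, hs.cen _ (h₂ ▸ hs.sq q)])
  calc q * p = p⁻¹ * e₃ * q⁻¹ := by rw [← h₃]; group
    _ = p * e₁ * e₃ * (q * e₂) := by rw [hp, hq]
    _ = p * (e₁ * e₃) * q * e₂ := by group
    _ = p * ((e₁ * e₃) * q) * e₂ := by group
    _ = p * (q * (e₁ * e₃)) * e₂ := by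
        rw [show e₁ * e₃ * q = q * (e₁ * e₃) by rw [mul_assoc, ← hc₃ q, ← mul_assoc, ← hc₁ q, mul_assoc]]
    _ = p * (q * (e₁ * (e₃ * e₂))) := by group
    _ = p * (q * (e₁ * e₂ * e₃)) := by rw [← hc₃ e₂, mul_assoc]

/-- Adapted coordinates. -/
theorem exists_chart (hs : Sixty W) (α : MulAut W) (h15 : α ^ 15 = 1) (h3 : α ^ 3 ≠ 1) (h5 : α ^ 5 ≠ 1) :
    ∃ (j : ℕ) (K : Chart W), (j = 1 ∨ j = 14) ∧ K.range = ⊤ ∧
      ∀ n, n < 64 → (α ^ j) (K.φ n) = K.φ (hf n) := by
  classical
  let Q := W ⧸ Subgroup.center W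
  have hQ2 : ∀ x : Q, x * x = 1 := by
    intro x
    obtain ⟨w, rfl⟩ := QuotientGroup.mk_surjective x
    rw [← QuotientGroup.mk_mul, QuotientGroup.eq_one_iff]
    exact hs.sq w
  letI : CommGroup Q :=
    { (inferInstance : Group Q) with
      mul_comm := fun x y => by
        have hinv : ∀ x : Q, x⁻¹ = x := fun x => inv_eq_of_mul_eq_one_right (hQ2 x)
        calc x * y = (x * y)⁻¹ := (hinv _).symm
          _ = y⁻¹ * x⁻¹ := mul_inv_rev x y
          _ = y * x := by rw [hinv, hinv] }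
  let mk : W → Additive Q := fun w => Additive.ofMul (QuotientGroup.mk w)
  let X : AddMonoid.End (Additive Q) := MonoidHom.toAdditive
    (QuotientGroup.map (Subgroup.center W) (Subgroup.center W) α.toMonoidHom
      (fun z hz => aut_center α hz))
  have hmk : ∀ (n : ℕ) (w : W), (X ^ n) (mk w) = mk ((α ^ n) w) := by
    intro n
    induction n with
    | zero => intro w; rfl
    | succ n ih =>
      intro w
      rw [pow_succ', pow_succ', MulAut.mul_apply]
      show X ((X ^ n) (mk w)) = _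
      rw [ih]
      rfl
  have hmsurj : Function.Surjective mk := fun x => by
    obtain ⟨w, hw⟩ := QuotientGroup.mk_surjective (Additive.toMul x)
    exact ⟨w, by show Additive.ofMul _ = x; rw [hw]; rfl⟩
  have hmeq : ∀ w w' : W, mk w = mk w' ↔ w⁻¹ * w' ∈ Subgroup.center W := fun w w' =>
    ⟨fun h => QuotientGroup.eq.1 (Additive.ofMul.injective h),
      fun h => congrArg Additive.ofMul (QuotientGroup.eq.2 h)⟩
  have hmadd : ∀ w w' : W, mk (w * w') = mk w + mk w' := fun w w' => rfl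
  have hcard : Nat.card (Additive Q) = 16 := by
    have h := Subgroup.card_eq_card_quotient_mul_card_subgroup (Subgroup.center W)
    rw [hs.card, hs.card_center] at h
    show Nat.card Q = 16
    change 64 = Nat.card Q * 4 at h
    omega
  have h2 : ∀ a : Additive Q, a + a = 0 := fun a => hQ2 (Additive.toMul a)
  have hX15 : X ^ 15 = 1 := DFunLike.ext _ _ fun a => by
    obtain ⟨w, rfl⟩ := hmsurj a
    rw [hmk, h15]; rfl
  have hne : ∀ k m : ℕ, (α ^ k) ^ m = 1 → Odd m → α ^ k ≠ 1 → X ^ k ≠ 1 := by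
    intro k m hkm hodd hk h
    refine hk (eq_one_of_trivial_mod hs hkm hodd fun w => (hmeq _ _).1 ?_)
    rw [← hmk, h]; rfl
  obtain ⟨j, v, hj, hv, h4, hgen⟩ := exists_vector hcard h2 X hX15
    (hne 3 5 (by rw [← pow_mul]; exact h15) ⟨2, rfl⟩ h3) (hne 5 3 (by rw [← pow_mul]; exact h15) ⟨1, rfl⟩ h5)
  obtain ⟨a, rfl⟩ := hmsurj v
  set β := α ^ j with hβ
  have hβ15 : β ^ 15 = 1 := by rw [hβ, ← pow_mul, mul_comm, pow_mul, h15, one_pow]
  have hb : ∀ (n : ℕ) (w : W), ((X ^ j) ^ n) (mk w) = mk ((β ^ n) w) := fun n w => by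
    rw [← pow_mul X, hmk, hβ, pow_mul]
  have hb1 : ∀ w : W, (X ^ j) (mk w) = mk (β w) := fun w => hmk j w
  rw [hb, hb1, ← hmadd, hmeq] at h4
  have hanc : a ∉ Subgroup.center W := fun h => hv ((hmeq 1 a).2 (by simpa using h)).symm
  -- normalise
  obtain ⟨c, hc, hc4⟩ : ∃ c ∈ Subgroup.center W, (β ^ 4) a * c = a * β a :=
    ⟨_, h4, mul_inv_cancel_left _ _⟩
  obtain ⟨a', ha', hrel, hbasis⟩ : ∃ a' : W, a' ∉ Subgroup.center W ∧ (β ^ 4) a' = a' * β a' ∧
      AddSubgroup.closure ({mk a', mk (β a'), mk ((β ^ 2) a'), mk ((β ^ 3) a')} : Set (Additive Q)) = ⊤ := by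
    have hc' := Subgroup.mem_center_iff.1 hc
    have hbc := Subgroup.mem_center_iff.1 (aut_center β hc)
    refine ⟨a * c, fun h => hanc (by simpa using mul_mem h (inv_mem hc)), ?_, ?_⟩
    · have e1 : (β ^ 4) c = β c := three_on_center hs hβ15 (aut_center β hc)
      have e2 : (β ^ 4) a = a * β a * c := by rw [← hc4, mul_assoc, hs.cen c hc, mul_one]
      rw [map_mul, map_mul, e1, e2]
      calc a * β a * c * β c = a * (β a * c) * β c := by group
        _ = a * (c * β a) * β c := by rw [hc']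
        _ = a * c * (β a * β c) := by group
    · have e : ∀ (n : ℕ), mk ((β ^ n) (a * c)) = mk ((β ^ n) a) := fun n =>
        (hmeq _ _).2 (by
          rw [map_mul, mul_inv_rev, mul_assoc, inv_mul_cancel, mul_one]
          exact inv_mem (aut_center _ hc))
      have e0 : mk (a * c) = mk a := by simpa using e 0
      have e1 : mk (β (a * c)) = mk (β a) := by simpa using e 1
      rw [hb, hb, hb1] at hgen
      rw [e0, e1, e, e, hgen]
  clear h4 hc4 hanc hv hgen
  set z₀ := a' * a' with hz₀def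
  set z₁ := β z₀ with hz₁def
  have hz₀ : z₀ ∈ Subgroup.center W := hs.sq a'
  have hz₁ : z₁ ∈ Subgroup.center W := aut_center β hz₀
  have h33 : β (β z₁) = z₀ := three_on_center hs hβ15 hz₀
  have hpowz : ∀ k, (β ^ (k + 3)) z₀ = (β ^ k) z₀ := fun k => by
    rw [pow_add, MulAut.mul_apply]
    exact congrArg _ h33
  have hb2 : (β ^ 2) z₀ = β z₁ := rfl
  -- congruences
  have hmod : ∀ (p q : W), mk p = mk q → p * p = q * q := by
    intro p q h
    obtain ⟨e, he, rfl⟩ : ∃ e ∈ Subgroup.center W, q = p * e :=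
      ⟨_, (hmeq _ _).1 h, (mul_inv_cancel_left _ _).symm⟩
    calc p * p = p * p * (e * e) := by rw [hs.cen e he, mul_one]
      _ = p * (p * e) * e := by group
      _ = p * (e * p) * e := by rw [Subgroup.mem_center_iff.1 he p]
      _ = _ := by group
  have hmβ : ∀ (n : ℕ) (p q : W), mk p = mk q → mk ((β ^ n) p) = mk ((β ^ n) q) := fun n p q h => by
    rw [← hb, ← hb, h]
  have hsqn : ∀ n, (β ^ n) a' * (β ^ n) a' = (β ^ n) z₀ := fun n => by rw [hz₀def, map_mul]
  have hβadd : ∀ (m n : ℕ) (w : W), (β ^ m) ((β ^ n) w) = (β ^ (m + n)) w := fun m n w => by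
    rw [pow_add, MulAut.mul_apply]
  have h4eq : mk ((β ^ 4) a') = mk a' + mk (β a') := by rw [hrel, hmadd]
  have h8eq : mk ((β ^ 8) a') = mk a' + mk ((β ^ 2) a') := by
    rw [← hβadd 4 4, hrel, map_mul, hrel, hmadd, hmadd]
    have e : mk ((β ^ 4) (β a')) = mk (β a') + mk ((β ^ 2) a') := by
      rw [show (β ^ 4) (β a') = β ((β ^ 4) a') from rfl, hrel, map_mul, hmadd]
      rfl
    rw [e, add_assoc, ← add_assoc (mk (β a')), h2, zero_add]
  have h14eq : mk ((β ^ 14) a') = mk a' + mk ((β ^ 3) a') := by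
    have e : (β ^ 14) a' = (β ^ 14) (β (a' * (β ^ 3) a') ) * ((β ^ 14) ((β (a' * (β ^ 3) a'))⁻¹ * a')) := by
      rw [← map_mul, mul_inv_cancel_left]
    have e1 : mk (β (a' * (β ^ 3) a')) = mk a' := by
      rw [map_mul, hmadd, show β ((β ^ 3) a') = (β ^ 4) a' from rfl, h4eq,
        add_comm (mk a') (mk (β a')), ← add_assoc, h2, zero_add]
    have e2 : mk ((β ^ 14) a') = mk ((β ^ 14) (β (a' * (β ^ 3) a'))) := hmβ 14 _ _ e1.symm
    rw [e2, show (β ^ 14) (β (a' * (β ^ 3) a')) = (β ^ 15) (a' * (β ^ 3) a') from rfl, hβ15,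
      MulAut.one_apply, hmadd]
  have t01 : (a' * β a') * (a' * β a') = (β ^ 4) z₀ := by
    rw [← hsqn 4]; exact hmod _ _ (by rw [hmadd, h4eq])
  have t02 : (a' * (β ^ 2) a') * (a' * (β ^ 2) a') = (β ^ 8) z₀ := by
    rw [← hsqn 8]; exact hmod _ _ (by rw [hmadd, h8eq])
  have t03 : (a' * (β ^ 3) a') * (a' * (β ^ 3) a') = (β ^ 14) z₀ := by
    rw [← hsqn 14]; exact hmod _ _ (by rw [hmadd, h14eq])
  have p4 : (β ^ 4) z₀ = z₁ := hpowz 1
  have p8 : (β ^ 8) z₀ = β z₁ := by rw [hpowz 5, hpowz 2]; rfl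
  have p14 : (β ^ 14) z₀ = β z₁ := by rw [hpowz 11, hpowz 8, hpowz 5, hpowz 2]; rfl
  have p3 : (β ^ 3) z₀ = z₀ := h33
  rw [p4] at t01
  rw [p8] at t02
  rw [p14] at t03
  have q1 : β a' * β a' = z₁ := by rw [hz₁def, hz₀def, map_mul]
  have q2 : (β ^ 2) a' * (β ^ 2) a' = β z₁ := hsqn 2
  have q3 : (β ^ 3) a' * (β ^ 3) a' = z₀ := (hsqn 3).trans p3
  have hz00 : z₀ * z₀ = 1 := hs.cen _ hz₀
  have hz11 : z₁ * z₁ = 1 := hs.cen _ hz₁
  have hz22 : β z₁ * β z₁ = 1 := hs.cen _ (aut_center β hz₁)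
  have s10 : β a' * a' = a' * (β a' * z₀) := by
    rw [swap_of_sq hs rfl q1 t01, ← hz₀def, mul_assoc z₀, hz11, mul_one]
  have s20 : (β ^ 2) a' * a' = a' * ((β ^ 2) a' * z₀) := by
    rw [swap_of_sq hs rfl q2 t02, ← hz₀def, mul_assoc z₀, hz22, mul_one]
  have s30 : (β ^ 3) a' * a' = a' * ((β ^ 3) a' * β z₁) := by
    rw [swap_of_sq hs rfl q3 t03, ← hz₀def, hz00, one_mul]
  have hz₀1 : z₀ ≠ 1 := fun h => ha' (hs.inv a' h)
  -- the centre is moved
  have hmove : z₁ ≠ z₀ := by
    intro heq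
    have h2z : β z₁ = z₀ := by rw [heq, ← hz₁def, heq]
    obtain ⟨z', hz', hz'1, hz'0⟩ : ∃ z' ∈ Subgroup.center W, z' ≠ 1 ∧ z' ≠ z₀ := by
      by_contra hall
      push Not at hall
      haveI : Fintype (Subgroup.center W) := Fintype.ofFinite _
      have hle : Fintype.card (Subgroup.center W) ≤
          ({1, ⟨z₀, hz₀⟩} : Finset (Subgroup.center W)).card := Finset.card_le_card fun x _ => by
        rw [Finset.mem_insert, Finset.mem_singleton]
        by_cases h : (x : W) = 1
        · exact Or.inl (Subtype.ext h)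
        · exact Or.inr (Subtype.ext (hall _ x.2 h))
      rw [← Nat.card_eq_fintype_card, hs.card_center] at hle
      have := hle.trans (Finset.card_insert_le _ _)
      simp at this
    obtain ⟨y, hy⟩ := hs.surj a' ha' z' hz'
    let Qs : Subgroup W :=
      { carrier := {q | ⁅a', q⁆ = 1 ∨ ⁅a', q⁆ = z₀}
        one_mem' := Or.inl (commutatorElement_one_right a')
        mul_mem' := fun {p q} hp hq => by
          simp only [Set.mem_ofPred_eq] at hp hq ⊢
          have e : ⁅a', p * q⁆ = ⁅a', p⁆ * ⁅a', q⁆ := by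
            rw [commutator_right]
            rcases hq with h | h <;> rw [h]
            · simp
            · rw [conj_center hz₀]
          rcases hp with h | h <;> rcases hq with h' | h' <;> rw [e, h, h']
          · exact Or.inl (mul_one _)
          · exact Or.inr (one_mul _)
          · exact Or.inr (mul_one _)
          · exact Or.inl hz00
        inv_mem' := fun {p} hp => by
          simp only [Set.mem_ofPred_eq] at hp ⊢
          have e := commutator_right a' p p⁻¹
          rw [mul_inv_cancel, commutatorElement_one_right] at e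
          rcases hp with h | h
          · left
            rw [h, one_mul] at e
            exact conj_eq_one_iff.1 e.symm
          · right
            rw [h] at e
            have e2 : p * ⁅a', p⁻¹⁆ * p⁻¹ = z₀ :=
              (eq_inv_of_mul_eq_one_right e.symm).trans (inv_eq_of_mul_eq_one_right hz00)
            calc ⁅a', p⁻¹⁆ = p⁻¹ * (p * ⁅a', p⁻¹⁆ * p⁻¹) * p := by group
              _ = p⁻¹ * z₀ * p := by rw [e2]
              _ = z₀ := by rw [mul_assoc, ← Subgroup.mem_center_iff.1 hz₀ p]; group }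
    have hcom : ∀ w : W, w * a' = a' * (w * z₀) → w ∈ Qs := fun w h => by
      right
      rw [commutatorElement_def]
      have hh : a' * w = w * a' * z₀ := by
        rw [h, mul_assoc, mul_assoc, hz00, mul_one]
      calc a' * w * a'⁻¹ * w⁻¹ = w * a' * z₀ * a'⁻¹ * w⁻¹ := by rw [hh]
        _ = w * (a' * z₀ * a'⁻¹) * w⁻¹ := by group
        _ = z₀ := by rw [conj_center hz₀, conj_center hz₀]
    have hcQ : Subgroup.center W ≤ Qs := fun z hz =>
      Or.inl (commutatorElement_eq_one_iff_mul_comm.2 (Subgroup.mem_center_iff.1 hz a'))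
    let U : AddSubgroup (Additive Q) :=
      Subgroup.toAddSubgroup (Qs.map (QuotientGroup.mk' (Subgroup.center W)))
    have hU : AddSubgroup.closure
        ({mk a', mk (β a'), mk ((β ^ 2) a'), mk ((β ^ 3) a')} : Set (Additive Q)) ≤ U := by
      rw [AddSubgroup.closure_le]
      rintro _ (rfl | rfl | rfl | rfl)
      · exact ⟨a', Or.inl (commutatorElement_self a'), rfl⟩
      · exact ⟨β a', hcom _ s10, rfl⟩
      · exact ⟨_, hcom _ s20, rfl⟩
      · exact ⟨_, hcom _ (h2z ▸ s30), rfl⟩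
    obtain ⟨y', hy', hyy⟩ := hU (show mk y ∈ _ by rw [hbasis]; trivial)
    have hyQ : y ∈ Qs := by
      have := Qs.mul_mem hy' (hcQ ((hmeq y' y).1 (congrArg Additive.ofMul hyy)))
      rwa [mul_inv_cancel_left] at this
    rcases hyQ with h | h
    · exact hz'1 (hy.symm.trans h)
    · exact hz'0 (hy.symm.trans h)
  have hz₁1 : z₁ ≠ 1 := fun h => hz₀1 (β.injective (by rw [← hz₁def, h, map_one]))
  have hne2 : β z₁ ≠ z₁ := fun h => hmove (β.injective (by rw [h, hz₁def]))
  have hne20 : β z₁ ≠ z₀ := fun h => hmove (by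
    conv_rhs => rw [← h33, h])
  have hzc : z₁ * z₀ = z₀ * z₁ := Subgroup.mem_center_iff.1 hz₀ z₁
  have h01 : z₀ * z₁ ≠ 1 := fun h => hmove
    ((inv_eq_of_mul_eq_one_right h).symm.trans (inv_eq_of_mul_eq_one_right hz00))
  have hz2 : β z₁ = z₀ * z₁ := by
    by_contra hne
    haveI : Fintype (Subgroup.center W) := Fintype.ofFinite _
    set x₂ : Subgroup.center W := ⟨β z₁, aut_center β hz₁⟩ with hx₂
    set y₀ : Subgroup.center W := ⟨z₀, hz₀⟩ with hy₀
    set y₁ : Subgroup.center W := ⟨z₁, hz₁⟩ with hy₁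
    have hb1 : β z₁ ≠ 1 := fun h => hz₁1 (β.injective (by rw [h, map_one]))
    have hd : ∀ x y : Subgroup.center W, (x : W) ≠ y → x ≠ y := fun x y h e => h (congrArg Subtype.val e)
    have h5 : ({1, y₀, y₁, x₂, y₀ * y₁} : Finset (Subgroup.center W)).card = 5 := by
      rw [Finset.card_insert_of_notMem, Finset.card_insert_of_notMem, Finset.card_insert_of_notMem,
        Finset.card_pair]
      · exact hd _ _ hne
      · simp only [Finset.mem_insert, Finset.mem_singleton, not_or]
        exact ⟨hd _ _ hne2.symm, hd _ _ fun h => hz₀1 (mul_eq_right.1 h.symm)⟩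
      · simp only [Finset.mem_insert, Finset.mem_singleton, not_or]
        exact ⟨hd _ _ hmove.symm, hd _ _ hne20.symm, hd _ _ fun h => hz₁1 (mul_eq_left.1 h.symm)⟩
      · simp only [Finset.mem_insert, Finset.mem_singleton, not_or]
        exact ⟨hd _ _ (Ne.symm hz₀1), hd _ _ (Ne.symm hz₁1), hd _ _ (Ne.symm hb1), hd _ _ (Ne.symm h01)⟩
    have := Finset.card_le_univ ({1, y₀, y₁, x₂, y₀ * y₁} : Finset (Subgroup.center W))
    rw [h5, ← Nat.card_eq_fintype_card, hs.card_center] at this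
    omega
  have hzc' : ∀ z ∈ Subgroup.center W, ∀ w, z * w = w * z := fun z hz w =>
    (Subgroup.mem_center_iff.1 hz w).symm
  let K : Chart W :=
    { a₀ := a', a₁ := β a', a₂ := (β ^ 2) a', a₃ := (β ^ 3) a', z₀ := z₀, z₁ := z₁
      sq₀ := rfl, sq₁ := q1, sq₂ := q2.trans hz2, sq₃ := q3
      s₁₀ := s10, s₂₀ := s20, s₃₀ := hz2 ▸ s30
      s₂₁ := by
        have := congrArg β s10
        simp only [map_mul] at this
        exact this
      s₃₁ := by
        have := congrArg β s20
        simp only [map_mul] at this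
        exact this
      s₃₂ := by
        have := congrArg (fun w => β (β w)) s10
        simp only [map_mul] at this
        rw [show β z₀ = z₁ from rfl, hz2] at this
        exact this
      zz₀ := hz00, zz₁ := hz11, zc := hzc
      c₀₀ := hzc' _ hz₀ _, c₀₁ := hzc' _ hz₀ _, c₀₂ := hzc' _ hz₀ _, c₀₃ := hzc' _ hz₀ _
      c₁₀ := hzc' _ hz₁ _, c₁₁ := hzc' _ hz₁ _, c₁₂ := hzc' _ hz₁ _, c₁₃ := hzc' _ hz₁ _ }
  refine ⟨j, K, hj, ?_, fun n hn => ?_⟩
  · refine eq_top_iff.2 fun w _ => ?_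
    have hcR : Subgroup.center W ≤ K.range := by
      intro z hz
      haveI : Fintype (Subgroup.center W) := Fintype.ofFinite _
      by_contra hzR
      have hn : ∀ e, e < 4 → z ≠ K.φ (16 * e) := fun e he h => hzR ⟨16 * e, by omega, h.symm⟩
      have e0 : z ≠ 1 := by simpa [Chart.φ] using hn 0 (by norm_num)
      have e1 : z ≠ z₀ := by simpa [Chart.φ, K] using hn 1 (by norm_num)
      have e2 : z ≠ z₁ := by simpa [Chart.φ, K] using hn 2 (by norm_num)
      have e3 : z ≠ z₀ * z₁ := by simpa [Chart.φ, K] using hn 3 (by norm_num)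
      have hd : ∀ x y : Subgroup.center W, (x : W) ≠ y → x ≠ y := fun x y h e => h (congrArg Subtype.val e)
      have h5 : ({⟨z, hz⟩, 1, ⟨z₀, hz₀⟩, ⟨z₁, hz₁⟩, ⟨z₀, hz₀⟩ * ⟨z₁, hz₁⟩} :
          Finset (Subgroup.center W)).card = 5 := by
        rw [Finset.card_insert_of_notMem, Finset.card_insert_of_notMem, Finset.card_insert_of_notMem,
          Finset.card_pair]
        · exact hd _ _ fun h => hz₀1 (mul_eq_right.1 h.symm)
        · simp only [Finset.mem_insert, Finset.mem_singleton, not_or]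
          exact ⟨hd _ _ hmove.symm, hd _ _ fun h => hz₁1 (mul_eq_left.1 h.symm)⟩
        · simp only [Finset.mem_insert, Finset.mem_singleton, not_or]
          exact ⟨hd _ _ (Ne.symm hz₀1), hd _ _ (Ne.symm hz₁1), hd _ _ (Ne.symm h01)⟩
        · simp only [Finset.mem_insert, Finset.mem_singleton, not_or]
          exact ⟨hd _ _ e0, hd _ _ e1, hd _ _ e2, hd _ _ e3⟩
      have := Finset.card_le_univ ({⟨z, hz⟩, 1, ⟨z₀, hz₀⟩, ⟨z₁, hz₁⟩, ⟨z₀, hz₀⟩ * ⟨z₁, hz₁⟩} :
        Finset (Subgroup.center W))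
      rw [h5, ← Nat.card_eq_fintype_card, hs.card_center] at this
      omega
    have hU : AddSubgroup.closure
        ({mk a', mk (β a'), mk ((β ^ 2) a'), mk ((β ^ 3) a')} : Set (Additive Q)) ≤
        Subgroup.toAddSubgroup (K.range.map (QuotientGroup.mk' (Subgroup.center W))) := by
      rw [AddSubgroup.closure_le]
      rintro _ (rfl | rfl | rfl | rfl)
      · exact ⟨a', ⟨1, by norm_num, by simp [Chart.φ, K]⟩, rfl⟩
      · exact ⟨β a', ⟨2, by norm_num, by simp [Chart.φ, K]⟩, rfl⟩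
      · exact ⟨_, ⟨4, by norm_num, by simp [Chart.φ, K]⟩, rfl⟩
      · exact ⟨_, ⟨8, by norm_num, by simp [Chart.φ, K]⟩, rfl⟩
    obtain ⟨w', hw', hww⟩ := hU (show mk w ∈ _ by rw [hbasis]; trivial)
    have := K.range.mul_mem hw' (hcR ((hmeq w' w).1 (congrArg Additive.ofMul hww)))
    rwa [mul_inv_cancel_left] at this
  · exact K.φ_hom β.toMonoidHom rfl rfl rfl hrel rfl hz2 hn

end CfsgLib.U34Recog
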