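import Mathlib

/-!
# A model of `2^{2+4} : 15` on `65` points and the exchanging involutions compatible with it
-/

namespace CfsgLib.U34Recog

set_option autoImplicit false

/-- An entry of a table stored in one number. -/
def look (B N i : ℕ) : ℕ := N / B ^ i % B

/-- The cocycle of the group of order `64`. -/
def beta (u v : ℕ) : ℕ := look 4 6572386672189381740864248090750204941530202883645749731786398955779924041031939550595641694276721309304890859111282697048506751672417307250951008815153152 (16 * u + v)

/-- Multiplication of the group of order `64`; `u + 16 e` codes `a₀^u₀ a₁^u₁ a₂^u₂ a₃^u₃ z₀^e₀ z₁^e₁`. -/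
def mulC (i j : ℕ) : ℕ :=
  (i % 16 ^^^ j % 16) + 16 * ((i / 16 ^^^ j / 16) ^^^ beta (i % 16) (j % 16))

/-- Inverses. -/
def invC (i : ℕ) : ℕ := i % 16 + 16 * (i / 16 ^^^ beta (i % 16) (i % 16))

/-- The automorphism of order `15` on the `65` points. -/
def hf (i : ℕ) : ℕ := if i < 64 then look 128 46594312549413613399854493084772112049196198744574763140762384337017812142043534032844133705939493695172843310799635494985376140756058368 i else 64

/-- The permutation of the centre induced by it. -/
def pZ (e : ℕ) : ℕ := [0, 2, 3, 1].getD e 0

/-- Its powers. -/
def hp : ℕ → ℕ → ℕ
  | 0, i => i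
  | n + 1, i => hf (hp n i)

/-- Translations. -/
def tf (u i : ℕ) : ℕ := if i < 64 then mulC u i else 64

/-- The representatives of the orbits. -/
def reps : List ℕ := [1, 5, 7, 20, 16]

/-- The orbit numbers. -/
def locO (i : ℕ) : ℕ := look 8 38704926891158288191916634456983286513992211542875078656 i

/-- The positions in the orbits. -/
def locN (i : ℕ) : ℕ := look 16 92154835059036685774006950484160217029823331381679228040351269754697045655808 i

/-- The elements of the orbits. -/
def elt (o n : ℕ) : ℕ := look 128 41404168618704463161846919256145172138825549877697644755789486438777246704300774647584293919086272416730755673066924603079786171006984905909560974516622000385 (15 * o + n)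

/-- The image orbits of the candidate involution. -/
def imgO (p c d o : ℕ) : ℕ :=
  if o = 0 then p else if o = p then 0 else if o = c then d else if o = d then c else 4

/-- The shifts of the candidate involution. -/
def imgS (k p c d s t o : ℕ) : ℕ :=
  if o = 0 then s else if o = p then (15 - k * s % 15) % 15 else if o = c then t
    else if o = d then (15 - k * t % 15) % 15 else 0

/-- The candidate involution. -/
def wv (k p c d s t i : ℕ) : ℕ :=
  if i = 0 then 64 else if i = 64 then 0 else
    elt (imgO p c d (locO i)) ((k * locN i + imgS k p c d s t (locO i)) % 15)

/-- The condition at a translation. -/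
def transOk (w : ℕ → ℕ) (u : ℕ) : Bool :=
  let g := fun i => w (tf (invC (w u)) (w (tf u (w i))))
  decide (g 0 < 64) && (List.range 15).any fun j => (List.range 65).all fun i => g i == tf (g 0) (hp j i)

/-- The standard involution. -/
def w0 (i : ℕ) : ℕ := look 128 80273112096655451263605528851016640089623241708457248549509819977923790130082727170944865224488306717741970236911859714840574761749696 i

theorem mul_assocC : (List.range 64).all (fun i => (List.range 64).all fun j =>
    [1, 2, 4, 8, 16, 32].all fun l => mulC (mulC i j) l == mulC i (mulC j l)) = true := by
  decide +kernel

theorem inv_ok : (List.range 64).all (fun i => mulC (invC i) i == 0 && mulC i (invC i) == 0 &&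
    decide (invC i < 64)) = true := by
  decide +kernel

theorem hf_ok : (List.range 64).all (fun i =>
    hf i == mulC (mulC (i % 8 * 2) (i / 8 % 2 * 3)) (16 * pZ (i / 16))) = true := by
  decide +kernel

theorem hf_perm : (List.range 65).all (fun i => decide (hf i < 65) && hp 15 i == i) = true := by
  decide +kernel

theorem loc_ok : (List.range 64).all (fun i => i == 0 ||
    (decide (locO i < 5) && decide (locN i < 15) && elt (locO i) (locN i) == i &&
      hp (locN i) (reps.getD (locO i) 0) == i && ((locO i == 4) == (i % 16 == 0)))) = true := by
  decide +kernel

theorem elt_ok : (List.range 5).all (fun o => (List.range 15).all fun n =>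
    elt o n == hp n (reps.getD o 0) && locO (elt o n) == o &&
      (o == 4 || locN (elt o n) == n)) = true := by
  decide +kernel

/-- For the two possible multipliers an orbit moved to itself contains a fixed point. -/
theorem self_ok : [11, 14].all (fun k => (List.range 15).all fun s =>
    !((k * s + s) % 15 == 0) || (List.range 15).any fun d => (k * d + s) % 15 == d) = true := by
  decide +kernel

/-- The only candidate passing the test. -/
theorem search_ok : [11, 14].all (fun k => [(1, 2, 3), (2, 1, 3), (3, 1, 2)].all fun P =>
    (List.range 15).all fun s => (List.range 15).all fun t =>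
      let w := wv k P.1 P.2.1 P.2.2 s t
      !(reps.all (transOk w)) || (List.range 65).all fun i => w i == w0 i) = true := by
  decide +kernel

end CfsgLib.U34Recog
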