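import Cfsg.Agent.Lib.U34Recog.Coord

/-!
# The action on the `65` points
-/

namespace CfsgLib.U34Recog

set_option autoImplicit false
set_option linter.style.haveILetI false

universe u

variable {G : Type u} [Group G] [Finite G]

namespace Coord

variable (C : Coord G)

/-- The points. -/
def pt (i : ℕ) : Sylow 2 G := if i < 64 then C.K.φ i • C.P₁ else C.P₀

theorem pt_of_lt {i : ℕ} (hi : i < 64) : C.pt i = C.K.φ i • C.P₁ := if_pos hi

theorem pt_top : C.pt 64 = C.P₀ := if_neg (by norm_num)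

theorem pt_zero : C.pt 0 = C.P₁ := by rw [C.pt_of_lt (by norm_num), C.K.φ_zero, one_smul]

theorem pt_ne {i : ℕ} (hi : i < 64) : C.pt i ≠ C.P₀ := fun h => C.ne (by
  rw [C.pt_of_lt hi] at h
  rw [← inv_smul_smul (C.K.φ i) C.P₁, h]
  exact smul_self_sylow (inv_mem (C.mem i hi)))

theorem pt_bijective : Function.Bijective fun i : Fin 65 => C.pt i.val := by
  refine (Nat.bijective_iff_injective_and_card _).2 ⟨fun i j hij => Fin.ext ?_, ?_⟩
  · simp only at hij
    rcases Nat.lt_or_ge i.val 64 with hi | hi <;> rcases Nat.lt_or_ge j.val 64 with hj | hj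
    · rw [C.pt_of_lt hi, C.pt_of_lt hj] at hij
      refine C.inj _ _ hi hj ?_
      have h1 : (C.K.φ j.val)⁻¹ * C.K.φ i.val = 1 := C.free C.P₀ C.P₁ C.ne.symm _
        (mul_mem (inv_mem (C.mem _ hj)) (C.mem _ hi)) (by rw [mul_smul, hij, inv_smul_smul])
      exact (inv_mul_eq_one.1 h1).symm
    · rw [show j.val = 64 by omega, C.pt_top] at hij
      exact absurd hij (C.pt_ne hi)
    · rw [show i.val = 64 by omega, C.pt_top] at hij
      exact absurd hij.symm (C.pt_ne hj)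
    · omega
  · rw [Nat.card_eq_fintype_card, Fintype.card_fin, C.card_sylow]

/-- The numbering. -/
noncomputable def e : Fin 65 ≃ Sylow 2 G := Equiv.ofBijective _ C.pt_bijective

/-- The number of a point. -/
noncomputable def idx (R : Sylow 2 G) : ℕ := (C.e.symm R).val

theorem idx_lt (R : Sylow 2 G) : C.idx R < 65 := (C.e.symm R).isLt

theorem pt_idx (R : Sylow 2 G) : C.pt (C.idx R) = R := C.e.apply_symm_apply R

theorem pt_inj {i j : ℕ} (hi : i < 65) (hj : j < 65) (h : C.pt i = C.pt j) : i = j :=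
  congrArg Fin.val (C.pt_bijective.1 (a₁ := ⟨i, hi⟩) (a₂ := ⟨j, hj⟩) h)

theorem idx_eq {i : ℕ} (hi : i < 65) {R : Sylow 2 G} (h : C.pt i = R) : C.idx R = i :=
  C.pt_inj (C.idx_lt R) hi ((C.pt_idx R).trans h.symm)

theorem tf_lt {u i : ℕ} (hu : u < 64) (hi : i < 65) : tf u i < 65 := by
  unfold tf; split_ifs with h
  · exact Nat.lt_succ_of_lt (mul_lt hu h)
  · norm_num

theorem phi_smul {u : ℕ} (hu : u < 64) {i : ℕ} (hi : i < 65) : C.K.φ u • C.pt i = C.pt (tf u i) := by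
  rcases Nat.lt_or_ge i 64 with h | h
  · rw [tf, if_pos h, C.pt_of_lt h, C.pt_of_lt (mul_lt hu h), C.K.φ_mul hu h, mul_smul]
  · rw [show i = 64 by omega, tf, if_neg (by norm_num), C.pt_top]
    exact smul_self_sylow (C.mem u hu)

theorem h_smul {i : ℕ} (hi : i < 65) : C.h • C.pt i = C.pt (hf i) := by
  rcases Nat.lt_or_ge i 64 with h | h
  · rw [C.pt_of_lt h, C.pt_of_lt (hf_lt' h), ← C.conj i h, mul_smul, mul_smul, inv_smul_eq_iff.2 C.fix₁.symm]
  · rw [show i = 64 by omega, show hf 64 = 64 by decide +kernel, C.pt_top]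
    exact C.fix₀

theorem _root_.CfsgLib.U34Recog.hp_lt (j : ℕ) {i : ℕ} (hi : i < 65) : hp j i < 65 := by
  induction j with
  | zero => exact hi
  | succ n ih => exact hf_lt ih

theorem _root_.CfsgLib.U34Recog.hp_add (a b x : ℕ) : hp a (hp b x) = hp (a + b) x := by
  induction a with
  | zero => rw [zero_add]; rfl
  | succ a ih => rw [show a + 1 + b = a + b + 1 by ring]; show hf (hp a (hp b x)) = hf _; rw [ih]

theorem _root_.CfsgLib.U34Recog.hp_mod (a : ℕ) {x : ℕ} (hx : x < 65) : hp a x = hp (a % 15) x := by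
  have h : ∀ m, hp (15 * m) x = x := by
    intro m
    induction m with
    | zero => rfl
    | succ m ih =>
      have h15 := List.all_eq_true.1 hf_perm x (List.mem_range.2 hx)
      simp only [Bool.and_eq_true, beq_iff_eq] at h15
      rw [show 15 * (m + 1) = 15 + 15 * m by ring, ← hp_add, ih, h15.2]
  conv_lhs => rw [← Nat.mod_add_div a 15, ← hp_add, h]

theorem hpow_smul (j : ℕ) {i : ℕ} (hi : i < 65) : C.h ^ j • C.pt i = C.pt (hp j i) := by
  induction j with
  | zero => rw [pow_zero, one_smul]; rfl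
  | succ n ih =>
    rw [pow_succ', mul_smul, ih, C.h_smul (hp_lt n hi)]
    rfl

theorem hpow_mod (j : ℕ) : C.h ^ j = C.h ^ (j % 15) := by
  rw [← C.ord, pow_mod_orderOf]

theorem decomp {g : G} (hg : g • C.P₀ = C.P₀) : ∃ v j : ℕ, v < 64 ∧ j < 15 ∧ g = C.K.φ v * C.h ^ j := by
  set n := C.idx (g • C.P₁) with hn
  have hlt : n < 64 := by
    by_contra h
    have h64 : n = 64 := by have := C.idx_lt (g • C.P₁); omega
    have := C.pt_idx (g • C.P₁)
    rw [← hn, h64, C.pt_top] at this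
    exact C.ne (smul_left_cancel g (this.symm.trans hg.symm))
  have h1 : C.K.φ n • C.P₁ = g • C.P₁ := by
    rw [← C.pt_of_lt hlt, hn, C.pt_idx]
  obtain ⟨j, hj, hj'⟩ := C.stab ((C.K.φ n)⁻¹ * g)
    (by rw [mul_smul, hg]; exact smul_self_sylow (inv_mem (C.mem n hlt)))
    (by rw [mul_smul, ← h1, inv_smul_smul])
  exact ⟨n, j, hlt, hj, by rw [← hj', mul_inv_cancel_left]⟩

include C in
theorem faithful {g : G} (hg : ∀ R : Sylow 2 G, g • R = R) : g = 1 := by
  have hS : g ∈ (C.P₀ : Subgroup G) := by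
    refine C.cent g fun q hq => ?_
    have hq' : g * q * g⁻¹ ∈ (C.P₀ : Subgroup G) :=
      (Subgroup.mem_normalizer_iff.1 (Sylow.smul_eq_iff_mem_normalizer.1 (hg C.P₀)) q).1 hq
    have h1 : q⁻¹ * (g * q * g⁻¹) = 1 := C.free C.P₀ C.P₁ C.ne.symm _
      (mul_mem (inv_mem hq) hq') (by
        rw [mul_smul, mul_smul, mul_smul, inv_smul_eq_iff.2 (hg C.P₁).symm, hg (q • C.P₁), inv_smul_smul])
    exact (mul_inv_eq_iff_eq_mul.1 (inv_mul_eq_one.1 h1).symm)
  exact C.free C.P₀ C.P₁ C.ne.symm g hS (hg C.P₁)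

/-- The permutation representation in coordinates. -/
noncomputable def rho : G →* Equiv.Perm (Fin 65) :=
  C.e.symm.permCongrHom.toMonoidHom.comp (MulAction.toPermHom G (Sylow 2 G))

theorem rho_val (g : G) (i : Fin 65) : (C.rho g i).val = C.idx (g • C.pt i.val) := rfl

theorem rho_injective : Function.Injective C.rho := by
  refine (injective_iff_map_eq_one C.rho).2 fun g hg => C.faithful fun R => ?_
  obtain ⟨i, rfl⟩ := C.e.surjective R
  have h := congrArg (fun p : Equiv.Perm (Fin 65) => C.e (p i)) hg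
  simp only [Equiv.Perm.one_apply] at h
  calc g • C.e i = C.e (C.rho g i) := (C.e.apply_symm_apply _).symm.trans rfl
    _ = C.e i := h

/-- An involution exchanging the two base points. -/
theorem exists_swap : ∃ t : G, t * t = 1 ∧ t ≠ 1 ∧ t • C.P₀ = C.P₁ ∧ t • C.P₁ = C.P₀ := by
  haveI : Fact (Nat.Prime 2) := ⟨Nat.prime_two⟩
  have hdvd : 2 ∣ Nat.card (C.P₁ : Subgroup G) := by
    obtain ⟨k, hk⟩ := IsPGroup.exists_card_eq C.P₁.2
    rw [hk]
    refine dvd_pow_self 2 fun h0 => ?_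
    have hbot : (C.P₁ : Subgroup G) = ⊥ := Subgroup.eq_bot_of_card_eq _ (by rw [hk, h0, pow_zero])
    obtain ⟨y, hy⟩ := MulAction.exists_smul_eq G C.P₁ C.P₀
    refine C.ne (Sylow.ext ?_)
    rw [hbot, ← hy, Sylow.coe_subgroup_smul, hbot, Subgroup.smul_bot]
  obtain ⟨⟨t, htP⟩, ht⟩ := exists_prime_orderOf_dvd_card' (G := (C.P₁ : Subgroup G)) 2 hdvd
  rw [← Subgroup.orderOf_coe] at ht
  have ht1 : t ≠ 1 := fun h => by
    have h1 : orderOf t = 1 := orderOf_eq_one_iff.2 h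
    simp only at ht
    omega
  have htt : t * t = 1 := by rw [← sq, ← ht, pow_orderOf_eq_one]
  have hα : t • C.P₀ ≠ C.P₀ := fun h => ht1 (C.free C.P₁ C.P₀ C.ne t htP h)
  set n := C.idx (t • C.P₀) with hn
  have hlt : n < 64 := by
    by_contra h
    have h64 : n = 64 := by have := C.idx_lt (t • C.P₀); omega
    have := C.pt_idx (t • C.P₀)
    rw [← hn, h64, C.pt_top] at this
    exact hα this.symm
  set g := C.K.φ n with hg
  have hg0 : g • C.P₀ = C.P₀ := smul_self_sylow (C.mem n hlt)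
  have hg1 : g • C.P₁ = t • C.P₀ := by rw [hg, ← C.pt_of_lt hlt, hn, C.pt_idx]
  refine ⟨g⁻¹ * t * g, ?_, ?_, ?_, ?_⟩
  · calc g⁻¹ * t * g * (g⁻¹ * t * g) = g⁻¹ * (t * t) * g := by group
      _ = 1 := by rw [htt]; group
  · intro h
    refine ht1 ?_
    calc t = g * (g⁻¹ * t * g) * g⁻¹ := by group
      _ = 1 := by rw [h]; group
  · rw [mul_smul, hg0, mul_smul, ← hg1, inv_smul_smul]
  · rw [mul_smul, hg1, mul_smul, ← mul_smul t t, htt, one_smul, inv_smul_eq_iff, hg0]

include C in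
/-- An involution fixes exactly one point. -/
theorem unique_fixed {t : G} (htt : t * t = 1) (ht1 : t ≠ 1) :
    ∃ Q : Sylow 2 G, t • Q = Q ∧ ∀ R : Sylow 2 G, t • R = R → R = Q := by
  haveI : Fact (Nat.Prime 2) := ⟨Nat.prime_two⟩
  have hp : IsPGroup 2 (Subgroup.zpowers t) := IsPGroup.of_card (n := 1) (by
    rw [Nat.card_zpowers, pow_one]
    exact orderOf_eq_prime (by rw [sq, htt]) ht1)
  obtain ⟨Q, hQ⟩ := hp.exists_le_sylow
  have htQ : t ∈ (Q : Subgroup G) := hQ (Subgroup.mem_zpowers t)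
  exact ⟨Q, smul_self_sylow htQ, fun R hR => by
    by_contra h
    exact ht1 (C.free Q R (Ne.symm h) t htQ hR)⟩

/-- The coordinates generate. -/
theorem closure_eq_top {w : G} (hw : w • C.P₀ = C.P₁) :
    Subgroup.closure ({g | ∃ u, u < 64 ∧ C.K.φ u = g} ∪ {C.h, w}) = ⊤ := by
  set L := Subgroup.closure ({g | ∃ u, u < 64 ∧ C.K.φ u = g} ∪ {C.h, w}) with hL
  have hφ : ∀ u, u < 64 → C.K.φ u ∈ L := fun u hu => Subgroup.subset_closure (Or.inl ⟨u, hu, rfl⟩)
  have hh : C.h ∈ L := Subgroup.subset_closure (Or.inr (Or.inl rfl))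
  have hwL : w ∈ L := Subgroup.subset_closure (Or.inr (Or.inr rfl))
  have hstab : ∀ g : G, g • C.P₀ = C.P₀ → g ∈ L := fun g hg => by
    obtain ⟨v, j, hv, -, rfl⟩ := C.decomp hg
    exact mul_mem (hφ v hv) (pow_mem hh j)
  refine eq_top_iff.2 fun g _ => ?_
  rcases Nat.lt_or_ge (C.idx (g • C.P₀)) 64 with h | h
  · have h1 : (C.K.φ (C.idx (g • C.P₀)) * w) • C.P₀ = g • C.P₀ := by
      rw [mul_smul, hw, ← C.pt_of_lt h, C.pt_idx]
    have hx : C.K.φ (C.idx (g • C.P₀)) * w ∈ L := mul_mem (hφ _ h) hwL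
    have := mul_mem hx (hstab ((C.K.φ (C.idx (g • C.P₀)) * w)⁻¹ * g) (by
      rw [mul_smul, inv_smul_eq_iff, h1]))
    rwa [mul_inv_cancel_left] at this
  · refine hstab g ?_
    have := C.pt_idx (g • C.P₀)
    rw [show C.idx (g • C.P₀) = 64 by have := C.idx_lt (g • C.P₀); omega, C.pt_top] at this
    exact this.symm

end Coord

end CfsgLib.U34Recog
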